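import Mathlib
import Cfsg.Prelude.Def_Characters
import Cfsg.Agent.Lib.CharExt.Obstruction

/-!
Extension criteria phrased for irreducible characters.
-/

set_option autoImplicit false

namespace Cfsg.Agent.Lib.CharExt

open Representation

universe u

variable {G : Type u} [Group G] (N : Subgroup G) [hN : N.Normal]

/-- An extension of a representation affording `ϑ` gives an irreducible extension of `ϑ`. -/
theorem exists_irrCharacter_of_extension {n : ℕ} (σ : Representation ℂ N (Fin n → ℂ))
    [IsIrreducible σ] (ϑ : N → ℂ) (hσ : σ.character = ϑ)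
    (h : ∃ R : Representation ℂ G (Fin n → ℂ), ∀ x : N, R x = σ x) :
    ∃ χ : G → ℂ, Cfsg.IsIrrCharacter G χ ∧ ∀ x : N, χ x = ϑ x := by
  obtain ⟨R, hR⟩ := h
  refine ⟨R.character, ⟨n, R, ?_, rfl⟩, fun x => ?_⟩
  · apply isIrreducible_of_comp N.subtype R
    have : (R.comp N.subtype : Representation ℂ N (Fin n → ℂ)) = σ :=
      MonoidHom.ext fun x => hR x
    rw [this]
    infer_instance
  · rw [← hσ, Representation.character, Representation.character, hR x]

/-- A representation of `P` whose character restricts to `σ`'s can be conjugated to restrict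
to `σ`. -/
theorem exists_rep_restrict_eq [Finite N] {V W : Type*} [AddCommGroup V] [Module ℂ V]
    [FiniteDimensional ℂ V] [AddCommGroup W] [Module ℂ W] [FiniteDimensional ℂ W]
    (σ : Representation ℂ N V) [IsIrreducible σ] (P : Subgroup G) (hNP : N ≤ P)
    (S : Representation ℂ P W) (h : ∀ x : N, S.character ⟨(x : G), hNP x.2⟩ = σ.character x) :
    ∃ R : Representation ℂ P V, ∀ x : N, R ⟨(x : G), hNP x.2⟩ = σ x := by
  let τ : Representation ℂ N W := S.comp (Subgroup.inclusion hNP)
  obtain ⟨e⟩ := nonempty_equiv_of_char_eq σ τ (funext fun x => h x)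
  refine ⟨e.toLinearEquiv.symm.conjRingEquiv.toMonoidHom.comp S, fun x => ?_⟩
  ext v
  change e.toLinearEquiv.symm (τ x (e.toLinearEquiv.symm.symm v)) = σ x v
  rw [LinearEquiv.symm_apply_eq, LinearEquiv.symm_symm]
  exact (LinearMap.congr_fun (e.isIntertwining' x) v).symm

theorem projG_surjective_of_char_invariant [Finite N] {n : ℕ}
    (σ : Representation ℂ N (Fin n → ℂ)) [IsIrreducible σ] (ϑ : N → ℂ) (hσ : σ.character = ϑ)
    (hinv : ∀ (g : G) (x : N), ϑ ⟨g * x * g⁻¹, hN.conj_mem (x : G) x.2 g⟩ = ϑ x) :
    Function.Surjective (projG N σ) :=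
  projG_surjective_of_invariant N σ fun g x => by
    rw [hσ]
    convert hinv g x using 2
    exact Subtype.ext (by simp [MulAut.conjNormal_apply])

end Cfsg.Agent.Lib.CharExt
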