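import Mathlib
import Cfsg.Agent.Lib.CharExt.BergerParts

/-!
Berger's theorem: over a solvable quotient, homogeneous restrictions exclude imprimitivity.
-/

set_option autoImplicit false
set_option maxHeartbeats 1000000

namespace Cfsg.Agent.Lib.CharExt

open Representation

universe u

/-- Berger's theorem, in module language. -/
theorem berger {G : Type u} [Group G] [Finite G] (L : Subgroup G) [L.Normal]
    (hsolv : Group.IsSolvable (G ⧸ L)) {V : Type} [AddCommGroup V] [Module ℂ V]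
    [FiniteDimensional ℂ V] (π : Representation ℂ G V) [IsIrreducible π]
    (hhom : ∀ N : Subgroup G, N.Normal → L ≤ N → IsHomog π N)
    (K : Subgroup G) (hLK : L ≤ K) (hK : K ≠ ⊤) (S₀ : Submodule ℂ V)
    (hS₀ : StableUnder π K S₀) (hS₀0 : S₀ ≠ ⊥)
    (hdim₀ : Module.finrank ℂ V = K.index * Module.finrank ℂ S₀) : False := by
  classical
  induction hn : L.index using Nat.strong_induction_on generalizing G L V with
  | _ n ih =>
  let := Fintype.ofFinite G
  obtain ⟨H, hH, hKH⟩ := (eq_top_or_exists_le_coatom K).resolve_left hK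
  obtain ⟨S, hS, hS0, hdim⟩ := exists_block_overgroup π hKH hS₀ hS₀0 hdim₀
  obtain ⟨P, hPS, hPfix, hPcomm, hPzero, hPoff⟩ := exists_block_proj π H hS hS0 hdim
  let C := H.normalCore
  have hLC : L ≤ C := Subgroup.normal_le_normalCore.2 (hLK.trans hKH)
  have hCH : C ≤ H := H.normalCore_le
  have hCne : C ≠ ⊤ := fun h => hH.1 (eq_top_iff.2 (h ▸ hCH))
  have : Group.IsSolvable (G ⧸ C) := by
    have := hsolv
    exact Group.isSolvable_of_surjective (f := QuotientGroup.map L C (MonoidHom.id G) hLC)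
      (fun x => by
        obtain ⟨g, rfl⟩ := QuotientGroup.mk_surjective x
        exact ⟨g, rfl⟩)
  obtain ⟨M, q, k, hMn, hCM, hq, hk, hCMidx, hMab, hMmin⟩ := exists_chief_step C hCne
  have hMH : ¬ M ≤ H := fun h => hCM.not_ge (Subgroup.normal_le_normalCore.2 h)
  have hsup : M ⊔ H = ⊤ :=
    hH.2 _ (lt_of_le_of_ne le_sup_right fun h => hMH (h ▸ le_sup_left))
  have hprod : ∀ g : G, ∃ m ∈ M, ∃ h ∈ H, m * h = g := fun g => by
    have : g ∈ M ⊔ H := hsup ▸ Subgroup.mem_top g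
    exact Subgroup.mem_sup_of_normal_left.1 this
  have hnormalOf : ∀ X : Subgroup G, (∀ m ∈ M, ∀ x ∈ X, m * x * m⁻¹ ∈ X) →
      (∀ h ∈ H, ∀ x ∈ X, h * x * h⁻¹ ∈ X) → X.Normal := by
    intro X h1 h2
    refine ⟨fun x hx g => ?_⟩
    obtain ⟨m, hm, h, hh, rfl⟩ := hprod g
    rw [show m * h * x * (m * h)⁻¹ = m * (h * x * h⁻¹) * m⁻¹ by group]
    exact h1 m hm _ (h2 h hh x hx)
  have hMC : M ⊓ H = C := by
    have hXn : (M ⊓ H).Normal := by
      refine hnormalOf _ (fun m hm x hx => ⟨hMn.conj_mem x hx.1 m, ?_⟩) fun h hh x hx =>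
        ⟨hMn.conj_mem x hx.1 h, H.mul_mem (H.mul_mem hh hx.2) (H.inv_mem hh)⟩
      rw [show m * x * m⁻¹ = (m * x * m⁻¹ * x⁻¹) * x by group]
      exact mul_mem (hCH (hMab m hm x hx.1)) hx.2
    exact (hMmin _ hXn (le_inf hCM.le hCH) inf_le_left).resolve_right
      fun h => hMH (h ▸ inf_le_right)
  have hMC' : ∀ m ∈ M, m ∈ H ↔ m ∈ C := fun m hm =>
    ⟨fun h => hMC ▸ ⟨hm, h⟩, fun h => hCH h⟩
  have hCn : C.Normal := inferInstance
  -- the constituent on `M` and the multiplicity space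
  have hVnt := nontrivial_of_isIrreducible π
  obtain ⟨U, -, hU0, hU, hUirr⟩ := exists_minimal_stable π M (A := ⊤) (fun _ _ _ _ => trivial)
    (by exact top_ne_bot)
  let σ := subRep π M U hU
  have hT : inertia M σ = ⊤ :=
    inertia_eq_top_of_isHomog π M (hhom M hMn (hLC.trans hCM.le)) hU hU0
  have := nontrivial_intertwining_sub π M U hU hU0
  let Γ := finiteIntertwiners M σ
  have hΓfin : Finite Γ := finite_finiteIntertwiners M σ
  let pg : Γ →* G := (projG M σ).comp Γ.subtype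
  have hpg : Function.Surjective pg := fun g => by
    have : g ∈ inertia M σ := hT ▸ Subgroup.mem_top g
    exact this
  let T : Γ → Module.End ℂ U := fun γ => (projT M σ γ.1 : Module.End ℂ U)
  have hTmem : ∀ (γ : Γ) (x : M), T γ * σ x = σ (MulAut.conjNormal (pg γ) x) * T γ :=
    fun γ x => γ.1.2 x
  let ω : Representation ℂ Γ (IntertwiningMap σ (resRep M π)) := (multRep M σ π).comp Γ.subtype
  have hωirr : IsIrreducible ω := multRep_isIrreducible M σ π
  have hωapply : ∀ (γ : Γ) (f : IntertwiningMap σ (resRep M π)) (u : U),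
      π (pg γ) (f.toLinearMap u) = (ω γ f).toLinearMap (T γ u) :=
    fun γ f u => pi_apply_eq_multRep M σ π γ.1 f u
  have hTinv : ∀ (γ : Γ) (u : U), T γ (T γ⁻¹ u) = u := by
    intro γ u
    change ((projT M σ γ.1 : Module.End ℂ U) * (projT M σ (γ⁻¹ : Γ).1 : Module.End ℂ U)) u = u
    rw [← Units.val_mul, ← map_mul, ← Subgroup.coe_mul, mul_inv_cancel, OneMemClass.coe_one,
      map_one]
    rfl
  have hωapply' : ∀ (γ : Γ) (f : IntertwiningMap σ (resRep M π)) (u : U),
      (ω γ f).toLinearMap u = π (pg γ) (f.toLinearMap (T γ⁻¹ u)) := by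
    intro γ f u
    rw [hωapply, hTinv]
  let L' : Subgroup Γ := M.comap pg
  have hL'n : L'.Normal := inferInstance
  have hscal : ∀ γ ∈ L', ∃ c : ℂ, ω γ = algebraMap ℂ _ c :=
    fun γ hγ => multRep_scalar_of_mem M σ π γ.1 hγ
  -- maps into the block
  have hCM' : ∀ c ∈ C, c ∈ M := fun c hc => hCM.le hc
  let HomCS : Submodule ℂ (U →ₗ[ℂ] V) :=
    { carrier := {h | (∀ (c : M), (c : G) ∈ C → ∀ u, h (σ c u) = π c (h u)) ∧ ∀ u, P (h u) = h u}
      zero_mem' := ⟨fun _ _ _ => by simp, fun _ => by simp⟩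
      add_mem' := fun {a b} ha hb => ⟨fun c hc u => by simp [ha.1 c hc u, hb.1 c hc u],
        fun u => by simp [ha.2 u, hb.2 u]⟩
      smul_mem' := fun r {a} ha => ⟨fun c hc u => by simp [ha.1 c hc u],
        fun u => by simp [ha.2 u]⟩ }
  have hPP : ∀ v, P (P v) = P v := fun v => hPfix _ (hPS v)
  let Φ : IntertwiningMap σ (resRep M π) →ₗ[ℂ] HomCS :=
    { toFun := fun f => ⟨P ∘ₗ f.toLinearMap, fun c hc u => by
          simp only [LinearMap.comp_apply]
          rw [intertwining_apply_pi, ← Module.End.mul_apply, hPcomm _ (hCH hc),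
            Module.End.mul_apply], fun u => hPP _⟩
      map_add' := fun a b => Subtype.ext (LinearMap.ext fun u => map_add P _ _)
      map_smul' := fun r a => Subtype.ext (LinearMap.ext fun u => map_smul P r _) }
  have hΦapply : ∀ f u, (Φ f).1 u = P (f.toLinearMap u) := fun f u => rfl
  have hCcard : (Nat.card C : ℂ) ≠ 0 := Nat.cast_ne_zero.2 Nat.card_pos.ne'
  have hsumM : ∀ v : V, ∑ m : M, π (m : G) (P (π (m : G)⁻¹ v)) = (Nat.card C : ℂ) • v := by
    intro v
    have hlin : (∑ m : M, π (m : G) * P * π (m : G)⁻¹ : Module.End ℂ V) =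
        (Nat.card C : ℂ) • 1 := by
      refine LinearMap.ext_on (span_orbit_eq_top π hS0) ?_
      rintro _ ⟨g, s, hs, rfl⟩
      obtain ⟨m₀, hm₀, h, hh, rfl⟩ := hprod g
      simp only [LinearMap.sum_apply, Module.End.mul_apply, LinearMap.smul_apply,
        Module.End.one_apply]
      rw [map_mul π, Module.End.mul_apply]
      set s' := π h s
      have hs' : s' ∈ S := hS h hh s hs
      have hterm : ∀ m : M, π (m : G) (P (π (m : G)⁻¹ (π m₀ s'))) =
          if (m : G)⁻¹ * m₀ ∈ C then π m₀ s' else 0 := by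
        intro m
        have hmem : (m : G)⁻¹ * m₀ ∈ M := mul_mem (inv_mem m.2) hm₀
        rw [← Module.End.mul_apply (π (m : G)⁻¹), ← map_mul]
        split_ifs with hc
        · rw [← Module.End.mul_apply P, hPcomm _ (hCH hc), Module.End.mul_apply, hPfix _ hs',
            ← Module.End.mul_apply, ← map_mul, mul_inv_cancel_left]
        · rw [hPoff _ _ hs' (fun h' => hc ((hMC' _ hmem).1 h')), map_zero]
      rw [Finset.sum_congr rfl fun m _ => hterm m, ← Finset.sum_filter, Finset.sum_const,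
        ← Nat.cast_smul_eq_nsmul ℂ]
      congr 2
      rw [← Fintype.card_subtype, ← Nat.card_eq_fintype_card]
      exact Nat.card_congr
        { toFun := fun m => ⟨(m.1 : G)⁻¹ * m₀, m.2⟩
          invFun := fun c => ⟨⟨m₀ * (c : G)⁻¹, mul_mem hm₀ (inv_mem (hCM.le c.2))⟩, by
            change (m₀ * (c : G)⁻¹)⁻¹ * m₀ ∈ C
            simp⟩
          left_inv := fun m => Subtype.ext (Subtype.ext (by simp))
          right_inv := fun c => Subtype.ext (by simp) }
    have := LinearMap.congr_fun hlin v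
    simpa [LinearMap.sum_apply] using this
  have hΦinj : Function.Injective Φ := by
    refine (injective_iff_map_eq_zero Φ).2 fun f hf => IntertwiningMap.ext (LinearMap.ext fun u => ?_)
    have h0 : ∀ u, P (f.toLinearMap u) = 0 := fun u =>
      LinearMap.congr_fun (congrArg Subtype.val hf) u
    have h1 := hsumM (f.toLinearMap u)
    rw [Finset.sum_eq_zero fun m _ => ?_] at h1
    · exact (smul_eq_zero.1 h1.symm).resolve_left hCcard
    · rw [show (m : G)⁻¹ = ((m⁻¹ : M) : G) from rfl, ← intertwining_apply_pi, h0, map_zero]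
  have hΦsurj : ∀ h ∈ HomCS, ∃ f, (Φ f).1 = h := by
    intro h hh
    let F : U →ₗ[ℂ] V := (Nat.card C : ℂ)⁻¹ • ∑ m : M, π (m : G) ∘ₗ h ∘ₗ σ m⁻¹
    have hF : ∀ (x : M) u, F (σ x u) = π x (F u) := by
      intro x u
      simp only [F, LinearMap.smul_apply, LinearMap.sum_apply, LinearMap.comp_apply, map_smul,
        map_sum]
      congr 1
      refine (Fintype.sum_equiv (Equiv.mulLeft x) _ _ fun m => ?_).symm
      simp only [Equiv.coe_mulLeft, ← Module.End.mul_apply, ← map_mul, Subgroup.coe_mul]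
      group
    refine ⟨⟨F, fun x => LinearMap.ext fun u => hF x u⟩, LinearMap.ext fun u => ?_⟩
    rw [hΦapply]
    simp only [F, LinearMap.smul_apply, LinearMap.sum_apply, LinearMap.comp_apply, map_smul,
      map_sum]
    have hterm : ∀ m : M, P (π (m : G) (h (σ m⁻¹ u))) = if (m : G) ∈ C then h u else 0 := by
      intro m
      rw [← hh.2]
      split_ifs with hc
      · rw [← Module.End.mul_apply P (π (m : G)), hPcomm _ (hCH hc), Module.End.mul_apply, hh.2,
          hh.2, hh.1 _ (inv_mem hc), Subgroup.coe_inv, pi_apply_inv]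
      · rw [← Module.End.mul_apply P (π (m : G)), ← Module.End.mul_apply,
          hPzero _ (fun h' => hc ((hMC' _ m.2).1 h'))]
        rfl
    rw [Finset.sum_congr rfl fun m _ => hterm m, ← Finset.sum_filter, Finset.sum_const,
      ← Nat.cast_smul_eq_nsmul ℂ, smul_smul]
    have hcard : (Finset.univ.filter fun m : M => (m : G) ∈ C).card = Nat.card C := by
      rw [← Fintype.card_subtype, ← Nat.card_eq_fintype_card]
      exact Nat.card_congr
        { toFun := fun m => ⟨m.1, m.2⟩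
          invFun := fun c => ⟨⟨c, hCM.le c.2⟩, c.2⟩
          left_inv := fun _ => rfl
          right_inv := fun _ => rfl }
    rw [hcard, inv_mul_cancel₀ hCcard, one_smul]
  obtain ⟨m₁, hm₁, hm₁C⟩ := SetLike.exists_of_lt hCM
  have hm₁H : m₁ ∉ H := fun h => hm₁C ((hMC' _ hm₁).1 h)
  -- commutant of `σ` on `C`
  let IsEndC : Module.End ℂ U → Prop := fun b => ∀ c : M, (c : G) ∈ C → b * σ c = σ c * b
  by_cases hscalC : ∀ b, IsEndC b → ∃ a : ℂ, b = a • 1
  · -- the constituent stays irreducible on `C`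
    let S₁ := S.map (π m₁)
    have hS₁ : StableUnder π C S₁ := by
      rintro c hc _ ⟨s, hs, rfl⟩
      refine ⟨π (m₁⁻¹ * c * m₁) s, hS _ (hCH (hCn.conj_mem' c hc m₁)) s hs, ?_⟩
      rw [← Module.End.mul_apply, ← map_mul, ← Module.End.mul_apply, ← map_mul]
      group
    have hS₁0 : S₁ ≠ ⊥ := fun h => hS0 (by
      rw [eq_bot_iff]
      intro s hs
      have h1 : π m₁ s ∈ S₁ := ⟨s, hs, rfl⟩
      rw [h, Submodule.mem_bot] at h1
      rw [Submodule.mem_bot, ← pi_inv_apply π m₁ s, h1, map_zero])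
    obtain ⟨φ, hφC, hφS, u₀, hu₀, hφu⟩ := hhom C hCn hLC U S₁ hU0 hS₁0
      (fun c hc => hU c (hCM.le hc)) hS₁
    let h : U →ₗ[ℂ] V := φ ∘ₗ U.subtype
    have hM : ∀ (x : M) (u : U), h (σ x u) = π x (h u) :=
      equivariant_of_subset M σ π hT {c : M | (c : G) ∈ C} hscalC h
        (fun c hc u => hφC c hc u u.2)
    let f : IntertwiningMap σ (resRep M π) := ⟨h, fun x => LinearMap.ext fun u => hM x u⟩
    have hf : Φ f = 0 := by
      refine Subtype.ext (LinearMap.ext fun u => ?_)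
      obtain ⟨s, hs, he⟩ := hφS u u.2
      change P (φ u) = 0
      rw [← he, hPoff _ _ hs hm₁H]
    have := congrArg IntertwiningMap.toLinearMap (hΦinj (hf.trans (map_zero Φ).symm))
    exact hφu (LinearMap.congr_fun this ⟨u₀, hu₀⟩)
  push Not at hscalC
  obtain ⟨b₀, hb₀, hb₀ns⟩ := hscalC
  by_cases hMtop : M = ⊤
  · -- then `H = C` is normal and the multiplicity space is a line
    subst hMtop
    have hUtop : U = ⊤ := by
      let p : Subrepresentation π := ⟨U, fun g v hv => hU g (Subgroup.mem_top g) v hv⟩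
      rcases IsSimpleOrder.eq_bot_or_eq_top p with h | h
      · exact absurd (congrArg Subrepresentation.toSubmodule h) hU0
      · exact congrArg Subrepresentation.toSubmodule h
    have hW1 : Module.finrank ℂ (IntertwiningMap σ (resRep ⊤ π)) = 1 := by
      have h1 := finrank_dvd_index_of_scalar ω L' hscal
      rw [show L' = ⊤ from Subgroup.comap_top pg, Subgroup.index_top] at h1
      exact Nat.dvd_one.1 h1
    let S₁ := S.map (π m₁)
    have hS₁ : StableUnder π C S₁ := by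
      rintro c hc _ ⟨s, hs, rfl⟩
      refine ⟨π (m₁⁻¹ * c * m₁) s, hS _ (hCH (hCn.conj_mem' c hc m₁)) s hs, ?_⟩
      rw [← Module.End.mul_apply, ← map_mul, ← Module.End.mul_apply, ← map_mul]
      group
    have hS₁0 : S₁ ≠ ⊥ := fun h => hS0 (by
      rw [eq_bot_iff]
      intro s hs
      have h1 : π m₁ s ∈ S₁ := ⟨s, hs, rfl⟩
      rw [h, Submodule.mem_bot] at h1
      rw [Submodule.mem_bot, ← pi_inv_apply π m₁ s, h1, map_zero])
    obtain ⟨φ, hφC, hφS, v₀, hv₀, hφv⟩ := hhom C hCn hLC S₁ S hS₁0 hS0 hS₁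
      (fun c hc => hS c (hCH hc))
    let P₁ : Module.End ℂ V := π m₁ * P * π m₁⁻¹
    have hP₁S : ∀ v, P₁ v ∈ S₁ := fun v => ⟨_, hPS _, rfl⟩
    have hP₁C : ∀ c ∈ C, P₁ * π c = π c * P₁ := by
      intro c hc
      have h1 := hPcomm _ (hCH (hCn.conj_mem' c hc m₁))
      calc P₁ * π c = π m₁ * (P * π (m₁⁻¹ * c * m₁)) * π m₁⁻¹ := by
            simp only [P₁, mul_assoc, ← map_mul]
            congr 2
            simp [mul_assoc]
        _ = _ := by
            rw [h1]
            simp only [P₁, ← mul_assoc, ← map_mul]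
            congr 2
            simp [← mul_assoc]
    let h : U →ₗ[ℂ] V := φ ∘ₗ P₁ ∘ₗ U.subtype
    have hh : h ∈ HomCS := by
      refine ⟨fun c hc u => ?_, fun u => hPfix _ (hφS _ (hP₁S _))⟩
      change φ (P₁ (π c u)) = π c (φ (P₁ u))
      have e : P₁ (π c u) = π c (P₁ u) := LinearMap.congr_fun (hP₁C _ hc) u
      rw [e, hφC _ hc _ (hP₁S _)]
    obtain ⟨f, hf⟩ := hΦsurj h hh
    let ι := inclIntertwining π ⊤ U hU
    have hι : ι ≠ 0 := fun h0 => hU0 (by
      rw [eq_bot_iff]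
      intro x hx
      exact (Submodule.mem_bot ℂ).2
        (LinearMap.congr_fun (congrArg IntertwiningMap.toLinearMap h0) ⟨x, hx⟩))
    obtain ⟨a, rfl⟩ := (finrank_eq_one_iff_of_nonzero' ι hι).1 hW1 f
    obtain ⟨s, hs, hs0⟩ := Submodule.exists_mem_ne_zero_of_ne_bot hS0
    have hP₁s : P₁ s = 0 := by
      change π m₁ (P (π m₁⁻¹ s)) = 0
      rw [hPoff _ _ hs (fun h' => hm₁H (inv_inv m₁ ▸ inv_mem h')), map_zero]
    have h1 := LinearMap.congr_fun hf ⟨s, hUtop ▸ Submodule.mem_top⟩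
    change P (a • s) = φ (P₁ s) at h1
    rw [map_smul, hPfix _ hs, hP₁s, map_zero, smul_eq_zero] at h1
    have ha : a = 0 := h1.resolve_right hs0
    obtain ⟨s', hs', rfl⟩ := hv₀
    have h2 := LinearMap.congr_fun hf ⟨π m₁ s', hUtop ▸ Submodule.mem_top⟩
    change P (a • π m₁ s') = φ (P₁ (π m₁ s')) at h2
    have hP₁s' : P₁ (π m₁ s') = π m₁ s' := by
      change π m₁ (P (π m₁⁻¹ (π m₁ s'))) = _
      rw [pi_inv_apply, hPfix _ hs']
    rw [ha, zero_smul, map_zero, hP₁s'] at h2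
    exact hφv h2.symm
  -- the chief step above `M`
  have : Group.IsSolvable (G ⧸ M) := by
    have := hsolv
    exact Group.isSolvable_of_surjective
      (f := QuotientGroup.map L M (MonoidHom.id G) (hLC.trans hCM.le))
      (fun x => by
        obtain ⟨g, rfl⟩ := QuotientGroup.mk_surjective x
        exact ⟨g, rfl⟩)
  obtain ⟨Kc, r, j, hKn, hMK, hr, hj, hMKidx, -, -⟩ := exists_chief_step M hMtop
  let D := Kc ⊓ H
  have hCD : C ≤ D := le_inf (hCM.le.trans hMK.le) hCH
  have hKD : Kc = D ⊔ M := by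
    refine le_antisymm (fun x hx => ?_) (sup_le inf_le_left hMK.le)
    obtain ⟨m, hm, h, hh, rfl⟩ := hprod x
    exact mul_mem (Subgroup.mem_sup_right hm)
      (Subgroup.mem_sup_left ⟨by simpa using mul_mem (inv_mem (hMK.le hm)) hx, hh⟩)
  have hCDidx : C.relIndex D = r ^ j := by
    rw [← hMKidx, hKD, Subgroup.relIndex_sup_right]
    refine (congrArg (fun X : Subgroup G => X.relIndex D) ?_).trans (Subgroup.inf_relIndex_right M D)
    exact le_antisymm (le_inf hCM.le hCD) fun x hx => hMC ▸ ⟨hx.1, hx.2.2⟩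
  have hfinal : (∀ m ∈ M, ∀ d ∈ D, m⁻¹ * d * m * d⁻¹ ∈ C) → False := by
    intro hcom
    have hDn : D.Normal := by
      refine hnormalOf D (fun m hm d hd => ?_) fun h hh d hd =>
        ⟨hKn.conj_mem d hd.1 h, H.mul_mem (H.mul_mem hh hd.2) (H.inv_mem hh)⟩
      have h1 := hcom m⁻¹ (inv_mem hm) d hd
      rw [inv_inv] at h1
      rw [show m * d * m⁻¹ = (m * d * m⁻¹ * d⁻¹) * d by group]
      exact mul_mem (hCD h1) hd
    have h2 : D ≤ C := Subgroup.normal_le_normalCore.2 inf_le_right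
    have h3 := hCDidx
    rw [Subgroup.relIndex_eq_one.2 h2] at h3
    exact (Nat.one_lt_pow hj.ne' hr.one_lt).ne h3
  by_cases hrq : r = q
  · -- a `q`-group acting on a `q`-group has fixed points
    subst hrq
    have := Fact.mk hq
    let X : Subgroup G :=
      { carrier := {m | m ∈ M ∧ ∀ y ∈ Kc, m * y * m⁻¹ * y⁻¹ ∈ C}
        one_mem' := ⟨M.one_mem, fun y _ => by simp⟩
        mul_mem' := fun {a b} ha hb => ⟨mul_mem ha.1 hb.1, fun y hy => by
          rw [show a * b * y * (a * b)⁻¹ * y⁻¹ =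
            (a * (b * y * b⁻¹ * y⁻¹) * a⁻¹) * (a * y * a⁻¹ * y⁻¹) by group]
          exact mul_mem (hCn.conj_mem _ (hb.2 y hy) a) (ha.2 y hy)⟩
        inv_mem' := fun {a} ha => ⟨inv_mem ha.1, fun y hy => by
          rw [show a⁻¹ * y * a⁻¹⁻¹ * y⁻¹ = a⁻¹ * (a * y * a⁻¹ * y⁻¹)⁻¹ * a⁻¹⁻¹ by group]
          exact hCn.conj_mem _ (inv_mem (ha.2 y hy)) _⟩ }
    have hXn : X.Normal := ⟨fun m hm g => ⟨hMn.conj_mem m hm.1 g, fun y hy => by
      have h1 := hCn.conj_mem _ (hm.2 (g⁻¹ * y * g) (hKn.conj_mem' y hy g)) g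
      rw [show g * (m * (g⁻¹ * y * g) * m⁻¹ * (g⁻¹ * y * g)⁻¹) * g⁻¹ =
        g * m * g⁻¹ * y * (g * m * g⁻¹)⁻¹ * y⁻¹ by group] at h1
      exact h1⟩⟩
    have hCX : C ≤ X := fun c hc => ⟨hCM.le hc, fun y hy => by
      rw [show c * y * c⁻¹ * y⁻¹ = c * (y * c⁻¹ * y⁻¹) by group]
      exact mul_mem hc (hCn.conj_mem _ (inv_mem hc) y)⟩
    rcases hMmin X hXn hCX (fun m hm => hm.1) with hX | hX
    · -- a nontrivial fixed point
      let Kb := Kc.map (QuotientGroup.mk' C)
      let Mb := M.map (QuotientGroup.mk' C)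
      have hcard : ∀ Y : Subgroup G, C ≤ Y → Nat.card (Y.map (QuotientGroup.mk' C)) = C.relIndex Y := by
        intro Y hY
        have h1 := Subgroup.relIndex_ker Y (QuotientGroup.mk' C)
        rw [QuotientGroup.ker_mk'] at h1
        exact h1.symm
      have hKbp : IsPGroup r Kb := IsPGroup.of_card (n := k + j) (by
        rw [hcard Kc (hCM.le.trans hMK.le), ← Subgroup.relIndex_mul_relIndex C M Kc hCM.le hMK.le,
          hCMidx, hMKidx, pow_add])
      have hMbn : Mb.Normal := hMn.map _ (QuotientGroup.mk'_surjective C)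
      let : MulAction Kb Mb :=
        { smul := fun y m => ⟨(y : G ⧸ C) * m * (y : G ⧸ C)⁻¹, hMbn.conj_mem _ m.2 _⟩
          one_smul := fun m => Subtype.ext (show ((1 : Kb) : G ⧸ C) * (m : G ⧸ C) *
            ((1 : Kb) : G ⧸ C)⁻¹ = m by simp)
          mul_smul := fun a b m => Subtype.ext (show ((a * b : Kb) : G ⧸ C) * (m : G ⧸ C) *
            ((a * b : Kb) : G ⧸ C)⁻¹ = (a : G ⧸ C) * ((b : G ⧸ C) * m * (b : G ⧸ C)⁻¹) *
              (a : G ⧸ C)⁻¹ by simp [mul_assoc]) }
      have hpM : r ∣ Nat.card Mb := by rw [hcard M hCM.le, hCMidx]; exact dvd_pow_self r hk.ne'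
      have h1fix : (1 : Mb) ∈ MulAction.fixedPoints Kb Mb := fun y => Subtype.ext
        (show (y : G ⧸ C) * ((1 : Mb) : G ⧸ C) * (y : G ⧸ C)⁻¹ = ((1 : Mb) : G ⧸ C) by simp)
      obtain ⟨⟨_, m, hm, rfl⟩, hmfix, hm1⟩ :=
        hKbp.exists_fixed_point_of_prime_dvd_card_of_fixed_point Mb hpM h1fix
      have hmX : m ∈ X := ⟨hm, fun y hy => by
        have h2 : (y : G ⧸ C) * (m : G ⧸ C) * (y : G ⧸ C)⁻¹ = (m : G ⧸ C) :=
          congrArg Subtype.val (hmfix ⟨_, ⟨y, hy, rfl⟩⟩)
        rw [← QuotientGroup.eq_one_iff]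
        simp only [QuotientGroup.mk_mul, QuotientGroup.mk_inv]
        rw [mul_inv_eq_iff_eq_mul] at h2
        rw [← h2]
        simp⟩
      rw [hX] at hmX
      exact hm1 (Subtype.ext ((QuotientGroup.eq_one_iff m).2 hmX).symm)
    · refine hfinal fun m hm d hd => ?_
      have : m⁻¹ ∈ X := by rw [hX]; exact inv_mem hm
      simpa using this.2 d hd.1
  -- the representation of the preimage of `H` on `U`
  let ΓH : Subgroup Γ := H.comap pg
  let ρH : Representation ℂ ΓH U :=
    ((Units.coeHom (Module.End ℂ U)).comp ((projT M σ).comp Γ.subtype)).comp ΓH.subtype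
  have hρH : ∀ γ : ΓH, ρH γ = T γ.1 := fun γ => rfl
  have hΦω : ∀ (γ : Γ), pg γ ∈ H → ∀ f u, (Φ (ω γ f)).1 u = π (pg γ) ((Φ f).1 (T γ⁻¹ u)) := by
    intro γ hγ f u
    rw [hΦapply, hΦapply, hωapply', ← Module.End.mul_apply P, hPcomm _ hγ, Module.End.mul_apply]
  have hΓprod : ∀ γ : Γ, ∃ a ∈ L', ∃ b ∈ ΓH, a * b = γ := by
    intro γ
    obtain ⟨m, hm, h, hh, hmh⟩ := hprod (pg γ)
    obtain ⟨a, rfl⟩ := hpg m
    refine ⟨a, hm, a⁻¹ * γ, ?_, mul_inv_cancel_left _ _⟩
    change pg (a⁻¹ * γ) ∈ H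
    rw [map_mul, map_inv, ← hmh, inv_mul_cancel_left]
    exact hh
  have hstableW : ∀ W₁ : Submodule ℂ (IntertwiningMap σ (resRep M π)),
      (∀ γ ∈ ΓH, ∀ f ∈ W₁, ω γ f ∈ W₁) → ∀ γ, ∀ f ∈ W₁, ω γ f ∈ W₁ := by
    intro W₁ h γ f hf
    obtain ⟨a, ha, b, hb, rfl⟩ := hΓprod γ
    rw [map_mul ω, Module.End.mul_apply]
    obtain ⟨c, hc⟩ := hscal a ha
    rw [hc, Module.algebraMap_end_apply]
    exact W₁.smul_mem _ (h b hb f hf)
  have hliftC : ∀ c : M, (c : G) ∈ C → ∃ (γ : ΓH) (a : ℂˣ), pg γ.1 = c ∧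
      ρH γ = (a : ℂ) • σ c := by
    intro c hc
    obtain ⟨γ, hγ⟩ := hpg c
    obtain ⟨a, ha⟩ := exists_scalar_of_projG_eq M σ (a := γ.1) (b := inclN M σ c) hγ
    refine ⟨⟨γ, show pg γ ∈ H from hγ ▸ hCH hc⟩, a, hγ, ?_⟩
    rw [hρH]
    change ((projT M σ γ.1 : (Module.End ℂ U)ˣ) : Module.End ℂ U) = _
    rw [ha, map_mul]
    change σ c * algebraMap ℂ (Module.End ℂ U) (a : ℂ) = _
    rw [← Algebra.commutes, Algebra.smul_def]
  -- `U` is irreducible for the preimage of `H`
  have hρirr : IsIrreducible ρH := by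
    have hUnt : Nontrivial U := Submodule.nontrivial_iff_ne_bot.2 hU0
    refine { toNontrivial := ⟨⊥, ⊤, fun h => bot_ne_top (α := Submodule ℂ U)
      (congrArg Subrepresentation.toSubmodule h)⟩, eq_bot_or_eq_top := fun p => ?_ }
    obtain ⟨p', hpp'⟩ := Chars.exists_isCompl ρH p
    have hc := Chars.isCompl_toSubmodule ρH hpp'
    by_contra hnot
    push Not at hnot
    have hp0 : p.toSubmodule ≠ ⊥ := fun h => hnot.1 (Subrepresentation.toSubmodule_injective h)
    have hp'0 : p'.toSubmodule ≠ ⊥ := fun h => hnot.2 (Subrepresentation.toSubmodule_injective (by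
      have h1 := hc.sup_eq_top
      rw [h, sup_bot_eq] at h1
      exact h1))
    have hstabC : ∀ p : Subrepresentation ρH,
        StableUnder π C (p.toSubmodule.map U.subtype) := by
      rintro p c hc' _ ⟨u, hu, rfl⟩
      obtain ⟨γ, a, -, ha⟩ := hliftC ⟨c, hCM.le hc'⟩ hc'
      have h1 := p.apply_mem_toSubmodule γ hu
      rw [ha, LinearMap.smul_apply, p.toSubmodule.smul_mem_iff (Units.ne_zero a)] at h1
      exact ⟨_, h1, rfl⟩
    have hexists : ∀ p p' : Subrepresentation ρH, IsCompl p.toSubmodule p'.toSubmodule →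
        p'.toSubmodule ≠ ⊥ →
        ∃ h ∈ HomCS, (∀ u ∈ p.toSubmodule, h u = 0) ∧ ∃ u ∈ p'.toSubmodule, h u ≠ 0 := by
      intro p p' hc hp'
      obtain ⟨h, hh1, hh2, hh3, u, hu, hu0⟩ := exists_extend_hom (hhom C hCn hLC) U
        (Submodule.map_subtype_le U p.toSubmodule) (Submodule.map_subtype_le U p'.toSubmodule)
        (Submodule.disjoint_map U.injective_subtype hc.1)
        (by rw [← Submodule.map_sup, hc.sup_eq_top, Submodule.map_top, Submodule.range_subtype])
        (hstabC p) (hstabC p') (fun c hc' => hS c (hCH hc'))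
        (fun h => hp' ((Submodule.map_injective_of_injective U.injective_subtype)
          (h.trans (Submodule.map_bot _).symm))) hS0
      refine ⟨h, ⟨fun c hc' u => hh1 c hc' u (hU c c.2 u u.2), fun u => hPfix _ (hh2 u)⟩,
        fun u hu => hh3 u ⟨u, hu, rfl⟩, u, ?_, hu0⟩
      obtain ⟨u', hu', he⟩ := hu
      exact (Subtype.ext he : u' = u) ▸ hu'
    let W₁ : Submodule ℂ (IntertwiningMap σ (resRep M π)) :=
      { carrier := {f | ∀ u ∈ p.toSubmodule, (Φ f).1 u = 0}
        zero_mem' := fun u _ => by simp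
        add_mem' := fun {a b} ha hb u hu => by simp [ha u hu, hb u hu]
        smul_mem' := fun r {a} ha u hu => by simp [ha u hu] }
    have hW₁ : ∀ γ ∈ ΓH, ∀ f ∈ W₁, ω γ f ∈ W₁ := by
      intro γ hγ f hf u hu
      rw [hΦω γ hγ]
      have h1 : (Φ f).1 (T γ⁻¹ u) = 0 :=
        hf _ (p.apply_mem_toSubmodule (⟨γ⁻¹, ΓH.inv_mem hγ⟩ : ΓH) hu)
      rw [h1, map_zero]
    let p₁ : Subrepresentation ω := ⟨W₁, fun γ f hf => hstableW W₁ hW₁ γ f hf⟩
    rcases IsSimpleOrder.eq_bot_or_eq_top p₁ with h | h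
    · obtain ⟨g, hg, hg1, u, -, hu⟩ := hexists p p' hc hp'0
      obtain ⟨f, rfl⟩ := hΦsurj g hg
      have : f ∈ p₁.toSubmodule := hg1
      rw [h] at this
      rw [(Submodule.mem_bot ℂ).1 this, map_zero] at hu
      exact hu rfl
    · obtain ⟨g, hg, -, u, hup, hu⟩ := hexists p' p hc.symm hp0
      obtain ⟨f, rfl⟩ := hΦsurj g hg
      have : f ∈ p₁.toSubmodule := by rw [h]; trivial
      exact hu (this u hup)
  -- the preimage of `D`
  let Dt : Subgroup ΓH := D.comap (pg.comp ΓH.subtype)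
  have hDtn : Dt.Normal := ⟨fun d hd g => by
    change pg _ ∈ D
    push_cast
    rw [map_mul, map_mul, map_inv]
    exact ⟨hKn.conj_mem _ hd.1 _, H.mul_mem (H.mul_mem g.2 hd.2) (H.inv_mem g.2)⟩⟩
  have hΓHfin : Finite ΓH := inferInstance
  have hUnt : Nontrivial U := Submodule.nontrivial_iff_ne_bot.2 hU0
  obtain ⟨U', -, hU'0, hU', hU'irr⟩ := exists_minimal_stable ρH Dt (A := ⊤)
    (fun _ _ _ _ => trivial) top_ne_bot
  have hU'nt : Nontrivial U' := Submodule.nontrivial_iff_ne_bot.2 hU'0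
  let σ' := subRep ρH Dt U' hU'
  have := nontrivial_intertwining_sub ρH Dt U' hU' hU'0
  let T' := inertia Dt σ'
  by_cases hT' : T' = ⊤
  swap
  · -- a block system on `U` gives one on the multiplicity space
    obtain ⟨U₁, hU₁0, hU₁stab, hUdim⟩ := exists_inertia_block Dt σ' ρH
    let Φ' : IntertwiningMap σ (resRep M π) →ₗ[ℂ] (U →ₗ[ℂ] V) := HomCS.subtype ∘ₗ Φ
    have hΦ'inj : Function.Injective Φ' := Subtype.val_injective.comp hΦinj
    obtain ⟨W₁, hW₁stab, hWdim⟩ := exists_block_multiplicity ΓH T' ω ρH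
      (π.comp (pg.comp ΓH.subtype)) Φ' hΦ'inj (fun t f u => hΦω t.1 t.2 f u)
      hU₁stab hU₁0 hUdim (fun f Q hQ => by
        have hmem : (Φ f).1 ∘ₗ Q ∈ HomCS := by
          refine ⟨fun c hc u => ?_, fun u => (Φ f).2.2 _⟩
          obtain ⟨γ, a, hγ, ha⟩ := hliftC c hc
          have hγT : γ ∈ T' := le_inertia Dt σ' (show pg γ.1 ∈ D from hγ ▸ hCD hc)
          have hγQ := hQ γ hγT u
          simp only [ha, LinearMap.smul_apply, map_smul] at hγQ
          have hQσ : Q (σ c u) = σ c (Q u) := smul_right_injective U (Units.ne_zero a) hγQ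
          simp only [LinearMap.comp_apply]
          rw [hQσ]
          exact (Φ f).2.1 c hc _
        obtain ⟨g, hg⟩ := hΦsurj _ hmem
        exact ⟨g, hg⟩)
    let Γ₁ : Subgroup Γ := T'.map ΓH.subtype ⊔ L'
    have hω₁ : StableUnder ω Γ₁ W₁ := by
      intro γ hγ f hf
      obtain ⟨t, ht, b, hb, rfl⟩ := Subgroup.mem_sup_of_normal_right.1 hγ
      rw [map_mul ω, Module.End.mul_apply]
      obtain ⟨c, hc⟩ := hscal b hb
      rw [hc, Module.algebraMap_end_apply, map_smul]
      exact W₁.smul_mem _ (hW₁stab t ht f hf)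
    have hΓ₁idx : Γ₁.index = T'.index := by
      set R := T'.map ΓH.subtype
      have h1 := Supersolvable.relIndex_mul_sup_index R L'
      have h2 := Supersolvable.relIndex_mul_sup_index ΓH L'
      have hsupΓ : ΓH ⊔ L' = ⊤ := eq_top_iff.2 fun γ _ => by
        obtain ⟨a, ha, b, hb, rfl⟩ := hΓprod γ
        exact mul_mem (Subgroup.mem_sup_right ha) (Subgroup.mem_sup_left hb)
      rw [hsupΓ, Subgroup.index_top, mul_one] at h2
      have hinf : R ⊓ L' = ΓH ⊓ L' := by
        refine le_antisymm (inf_le_inf_right _ (Subgroup.map_subtype_le _)) fun x hx =>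
          ⟨⟨⟨x, hx.1⟩, le_inertia Dt σ' ?_, rfl⟩, hx.2⟩
        exact hCD ((hMC' _ hx.2).1 hx.1)
      rw [← Subgroup.inf_relIndex_right R L', hinf, Subgroup.inf_relIndex_right, h2,
        Subgroup.index_map_subtype, mul_comm T'.index] at h1
      exact Nat.eq_of_mul_eq_mul_left (Nat.pos_of_ne_zero Subgroup.index_ne_zero_of_finite) h1
    have hWnt := nontrivial_of_isIrreducible ω
    have hW₁0 : W₁ ≠ ⊥ := fun h => by
      rw [h, finrank_bot, mul_zero] at hWdim
      exact Module.finrank_pos.ne' hWdim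
    have hΓ₁top : Γ₁ ≠ ⊤ := fun h => hT' (by
      rw [← Subgroup.index_eq_one, ← hΓ₁idx, h, Subgroup.index_top])
    have hindex : L'.index < n := by
      rw [← hn, Subgroup.index_comap_of_surjective M hpg,
        ← Subgroup.relIndex_mul_index (hLC.trans hCM.le)]
      refine lt_mul_of_one_lt_left (Nat.pos_of_ne_zero Subgroup.index_ne_zero_of_finite) ?_
      refine lt_of_le_of_ne (Nat.pos_of_ne_zero Subgroup.index_ne_zero_of_finite) fun h => ?_
      exact hCM.not_ge ((Subgroup.relIndex_eq_one.1 h.symm).trans hLC)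
    have hΓsolv : Group.IsSolvable (Γ ⧸ L') := by
      refine Group.isSolvable_of_isSolvable_injective
        (f := QuotientGroup.map L' M pg le_rfl) ?_
      rw [← MonoidHom.ker_eq_bot_iff, eq_bot_iff]
      intro x hx
      induction x using QuotientGroup.induction_on with | H γ => ?_
      rw [MonoidHom.mem_ker, QuotientGroup.map_mk, QuotientGroup.eq_one_iff] at hx
      exact Subgroup.mem_bot.2 ((QuotientGroup.eq_one_iff γ).2 hx)
    refine ih L'.index hindex L' hΓsolv ω ?_ Γ₁ le_sup_right hΓ₁top W₁ hω₁ hW₁0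
      (by rw [hWdim, hΓ₁idx]) rfl
    intro Δ hΔ hΔL
    exact isHomog_multRep M σ π hT Δ (fun m hm => by
        obtain ⟨γ, rfl⟩ := hpg m
        exact ⟨γ, hΔL hm, rfl⟩)
      (hhom _ (hΔ.map _ hpg) (hLC.trans (hCM.le.trans fun m hm => by
        obtain ⟨γ, rfl⟩ := hpg m
        exact ⟨γ, hΔL hm, rfl⟩)))
  -- `T' = ⊤`
  let Cm : Subgroup M := C.subgroupOf M
  have hCmn : Cm.Normal := inferInstance
  have hσirr : IsIrreducible σ := hUirr
  obtain ⟨Uc, -, hUc0, hUc, hUcirr⟩ := exists_minimal_stable σ Cm (A := ⊤)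
    (fun _ _ _ _ => trivial) top_ne_bot
  have := nontrivial_intertwining_sub σ Cm Uc hUc hUc0
  let Ct : Subgroup Dt := C.comap ((pg.comp ΓH.subtype).comp Dt.subtype)
  have hCtn : Ct.Normal := inferInstance
  have hσ'irr : IsIrreducible σ' := hU'irr
  obtain ⟨Ud, -, hUd0, hUd, hUdirr⟩ := exists_minimal_stable σ' Ct (A := ⊤)
    (fun _ _ _ _ => trivial) top_ne_bot
  have := nontrivial_intertwining_sub σ' Ct Ud hUd hUd0
  have hdc : Module.finrank ℂ Uc = Module.finrank ℂ Ud := by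
    let A := Uc.map U.subtype
    let B := (Ud.map U'.subtype).map U.subtype
    have hA : IsMinStable π C A := by
      obtain ⟨hA0, hAs, hAm⟩ := isMinStable_of_irreducible σ Cm Uc hUc0 hUc
      refine ⟨fun h => hA0 (Submodule.map_injective_of_injective U.injective_subtype
        (h.trans (Submodule.map_bot _).symm)), ?_, fun X hXA hX => ?_⟩
      · rintro c hc _ ⟨u, hu, rfl⟩
        exact ⟨_, hAs ⟨c, hCM.le hc⟩ hc u hu, rfl⟩
      · have hXU : X ≤ U := hXA.trans (Submodule.map_subtype_le U Uc)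
        have hback : (X.comap U.subtype).map U.subtype = X := by
          rw [Submodule.map_comap_subtype, inf_eq_right.2 hXU]
        rcases hAm (X.comap U.subtype) (fun u hu => by
          obtain ⟨u', hu', he⟩ := hXA hu
          exact (Subtype.ext he : u' = u) ▸ hu') (fun c hc u hu => hX c hc u hu) with h | h
        · left; rw [← hback, h, Submodule.map_bot]
        · right; rw [← hback, h]
    have hB : IsMinStable π C B := by
      obtain ⟨hB0, hBs, hBm⟩ := isMinStable_of_irreducible σ' Ct Ud hUd0 hUd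
      refine ⟨fun h => hB0 ?_, ?_, fun X hXB hX => ?_⟩
      · apply Submodule.map_injective_of_injective U'.injective_subtype
        apply Submodule.map_injective_of_injective U.injective_subtype
        rw [Submodule.map_bot, Submodule.map_bot]; exact h
      · rintro c hc _ ⟨_, ⟨u, hu, rfl⟩, rfl⟩
        obtain ⟨γ, a, hγ, ha⟩ := hliftC ⟨c, hCM.le hc⟩ hc
        have hγD : γ ∈ Dt := show pg γ.1 ∈ D from hγ ▸ hCD hc
        have h1 : (a : ℂ)⁻¹ • σ' ⟨γ, hγD⟩ u ∈ Ud :=
          Ud.smul_mem _ (hBs ⟨γ, hγD⟩ (show pg γ.1 ∈ C from hγ ▸ hc) u hu)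
        refine ⟨_, ⟨_, h1, rfl⟩, ?_⟩
        change (a : ℂ)⁻¹ • ((ρH γ (u : U) : U) : V) = π c ((u : U) : V)
        rw [ha, LinearMap.smul_apply, Submodule.coe_smul, smul_smul,
          inv_mul_cancel₀ (Units.ne_zero a), one_smul]
        rfl
      · have hXU : X ≤ B := hXB
        have hback : (((X.comap U.subtype).comap U'.subtype).map U'.subtype).map U.subtype = X := by
          rw [Submodule.map_comap_subtype, Submodule.map_inf U.subtype U.injective_subtype,
            Submodule.map_comap_subtype]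
          refine le_antisymm (inf_le_right.trans inf_le_right) fun x hx => ?_
          obtain ⟨y, hy, rfl⟩ := hXU hx
          exact ⟨⟨y, Submodule.map_subtype_le U' Ud hy, rfl⟩, y.2, hx⟩
        rcases hBm ((X.comap U.subtype).comap U'.subtype) (fun u hu => by
          obtain ⟨y, ⟨z, hz, rfl⟩, he⟩ := hXB hu
          exact (Subtype.ext (Subtype.ext he) : z = u) ▸ hz) (fun γ hγ u hu => by
            obtain ⟨c', a', hc'⟩ : ∃ (c : M) (a : ℂˣ), (c : G) ∈ C ∧
                ρH γ.1 = (a : ℂ) • σ c := by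
              let c : M := ⟨pg γ.1.1, hCM.le hγ⟩
              obtain ⟨a, ha⟩ := exists_scalar_of_projG_eq M σ (a := γ.1.1.1) (b := inclN M σ c) rfl
              refine ⟨c, a, hγ, ?_⟩
              rw [hρH]
              change ((projT M σ γ.1.1.1 : (Module.End ℂ U)ˣ) : Module.End ℂ U) = _
              rw [ha, map_mul]
              change σ c * algebraMap ℂ (Module.End ℂ U) (a : ℂ) = _
              rw [← Algebra.commutes, Algebra.smul_def]
            change ((ρH γ.1 (u : U) : U) : V) ∈ X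
            rw [hc'.2, LinearMap.smul_apply, Submodule.coe_smul]
            exact X.smul_mem _ (hX c' hc'.1 _ hu)) with h | h
        · left; rw [← hback, h, Submodule.map_bot, Submodule.map_bot]
        · right; rw [← hback, h]
    have h1 := finrank_eq_of_isMinStable (hhom C hCn hLC) hA hB
    rwa [← (Submodule.equivMapOfInjective _ U.injective_subtype Uc).finrank_eq,
      ← (Submodule.equivMapOfInjective _ U.injective_subtype _).finrank_eq,
      ← (Submodule.equivMapOfInjective _ U'.injective_subtype Ud).finrank_eq] at h1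
  obtain ⟨x, hxdvd', hUx⟩ := exists_dvd_index_finrank_eq Cm (subRep σ Cm Uc hUc) σ
  have hxdvd : x ∣ q ^ k := hCMidx ▸ hxdvd'
  obtain ⟨y, hydvd', hU'y⟩ := exists_dvd_index_finrank_eq (U := Ud) Ct (subRep σ' Ct Ud hUd) σ'
  have hydvd : y ∣ r ^ j := by
    refine dvd_trans hydvd' (dvd_of_eq ?_)
    rw [← hCDidx, Subgroup.index_comap]
    congr 1
    refine le_antisymm ?_ fun d hd => ?_
    · rintro _ ⟨z, rfl⟩; exact z.2
    · obtain ⟨γ, hγ⟩ := hpg d
      exact ⟨⟨⟨γ, show pg γ ∈ H from hγ ▸ hd.2⟩, show pg γ ∈ D from hγ ▸ hd⟩, hγ⟩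
  have hy1 : y = 1 := by
    have h1 := finrank_eq_index_mul Dt σ' ρH
    rw [show inertia Dt σ' = ⊤ from hT', Subgroup.index_top, one_mul, hU'y, ← hdc, hUx,
      mul_assoc] at h1
    have hyx : y ∣ x := ⟨_, Nat.eq_of_mul_eq_mul_left (Submodule.one_le_finrank_iff.2 hUc0) h1⟩
    have hcop : Nat.Coprime (r ^ j) (q ^ k) :=
      Nat.coprime_pow_primes _ _ hr hq hrq
    exact Nat.eq_one_of_dvd_coprimes hcop hydvd (hyx.trans hxdvd)
  rw [hy1, mul_one] at hU'y
  have hUdtop : Ud = ⊤ := Submodule.eq_top_of_finrank_eq hU'y.symm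
  have hcom : ∀ b, IsEndC b → ∀ γ ∈ Dt, b * ρH γ = ρH γ * b := by
    intro b hb γ hγ
    have hC' : ∀ b' : Module.End ℂ U', (∀ z ∈ {z : Dt | z ∈ Ct}, b' * σ' z = σ' z * b') →
        ∃ a : ℂ, b' = a • 1 := by
      intro b' hb'
      have hmin := isMinStable_of_irreducible σ' Ct Ud hUd0 hUd
      rw [hUdtop] at hmin
      exact scalar_of_commute_of_isMinStable hmin b' hb'
    have hb2 : ∀ z ∈ {z : Dt | z ∈ Ct}, ∀ u, b (ρH z.1 u) = ρH z.1 (b u) := by
      intro z hz u
      let c : M := ⟨pg z.1.1, hCM.le hz⟩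
      obtain ⟨a, ha⟩ := exists_scalar_of_projG_eq M σ (a := z.1.1.1) (b := inclN M σ c) rfl
      have hz' : ρH z.1 = (a : ℂ) • σ c := by
        rw [hρH]
        change ((projT M σ z.1.1.1 : (Module.End ℂ U)ˣ) : Module.End ℂ U) = _
        rw [ha, map_mul]
        change σ c * algebraMap ℂ (Module.End ℂ U) (a : ℂ) = _
        rw [← Algebra.commutes, Algebra.smul_def]
      have hbc : b (σ c u) = σ c (b u) := LinearMap.congr_fun (hb c hz) u
      rw [hz', LinearMap.smul_apply, LinearMap.smul_apply, map_smul, hbc]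
    exact commute_of_tensor Dt σ' ρH hT' {z : Dt | z ∈ Ct} hC' b hb2 ⟨γ, hγ⟩
  -- conclusion
  refine hfinal fun m hm d hd => ?_
  obtain ⟨γ, rfl⟩ := hpg d
  have hγD : (⟨γ, hd.2⟩ : ΓH) ∈ Dt := hd
  have h1 := commutator_mem_of_commute C M hCM.le hMmin σ pg hpg T hTmem hTinv b₀ hb₀ hb₀ns γ
    (fun b hb => hcom b hb ⟨γ, hd.2⟩ hγD) m hm
  simpa [mul_assoc] using h1

end Cfsg.Agent.Lib.CharExt
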