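import Mathlib
import Cfsg.Agent.Lib.CharExt.Berger
import Cfsg.Agent.Lib.Chars.Induced

/-!
Berger's theorem in character language.
-/

set_option autoImplicit false

namespace Cfsg.Agent.Lib.CharExt

open Representation Cfsg

universe u

/-- An irreducible character with homogeneous restrictions above `L`, with `G/L` solvable, is not
induced from a proper subgroup containing `L`. -/
theorem berger_char {G : Type u} [Group G] [Fintype G] (L : Subgroup G) [L.Normal]
    (hsolv : Group.IsSolvable (G ⧸ L)) (χ : G → ℂ) (hχ : IsIrrCharacter G χ)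
    (hqp : ∀ N : Subgroup G, N.Normal → L ≤ N → ∃ (ϑ : N → ℂ) (e : ℕ),
      IsIrrCharacter N ϑ ∧ (fun n : N => χ n) = (e : ℂ) • ϑ)
    (K : Subgroup G) (hLK : L ≤ K) (hK : K ≠ ⊤) (ψ : K → ℂ) (hψ : IsCharacter K ψ) :
    indFun K ψ ≠ χ := by
  classical
  intro hind
  obtain ⟨n, π, hirr, rfl⟩ := hχ
  obtain ⟨m, τ, rfl⟩ := hψ
  let := Fintype.ofFinite K
  let πK : Representation ℂ K (Fin n → ℂ) := π.comp K.subtype
  have h1 : classInner τ.character πK.character = 1 := by
    have h := Chars.classInner_indFun_left K τ.character π.character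
      (Chars.isClassFunction_of_isCharacter (Chars.isCharacter_of_rep π))
    rw [hind, Chars.classInner_self_of_irreducible] at h
    exact h.symm
  rw [Chars.classInner_char_eq_finrank] at h1
  have hrank : Module.finrank ℂ (IntertwiningMap πK τ) = 1 := by exact_mod_cast h1
  have := Module.nontrivial_of_finrank_pos (R := ℂ) (M := IntertwiningMap πK τ) (by omega)
  have h2 : classInner πK.character τ.character = 1 := by
    rw [← Chars.conj_classInner, Chars.classInner_char_eq_finrank, hrank]; simp
  rw [Chars.classInner_char_eq_finrank] at h2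
  have hrank' : Module.finrank ℂ (IntertwiningMap τ πK) = 1 := by exact_mod_cast h2
  have := Module.nontrivial_of_finrank_pos (R := ℂ) (M := IntertwiningMap τ πK) (by omega)
  obtain ⟨f, hf⟩ := exists_ne (0 : IntertwiningMap τ πK)
  let S := LinearMap.range f.toLinearMap
  have hS : StableUnder π K S := by
    rintro k hk _ ⟨x, rfl⟩
    exact ⟨τ ⟨k, hk⟩ x, LinearMap.congr_fun (f.isIntertwining' ⟨k, hk⟩) x⟩
  have hS0 : S ≠ ⊥ := fun h => hf (IntertwiningMap.ext (LinearMap.ext fun x => by
    have hx : f.toLinearMap x ∈ S := LinearMap.mem_range_self _ x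
    rw [h, Submodule.mem_bot] at hx
    exact hx))
  have hdeg : n = K.index * m := by
    have h := congrFun hind 1
    rw [Chars.indFun_one_eq, Representation.char_one, Representation.char_one,
      Module.finrank_fin_fun, Module.finrank_fin_fun] at h
    exact_mod_cast h.symm
  have hle1 : Module.finrank ℂ S ≤ m := by
    have := LinearMap.finrank_range_le f.toLinearMap
    rwa [Module.finrank_fin_fun] at this
  have hle2 := finrank_le_index_mul π K hS hS0
  have hdim : Module.finrank ℂ (Fin n → ℂ) = K.index * Module.finrank ℂ S := by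
    refine le_antisymm hle2 ?_
    calc K.index * Module.finrank ℂ S ≤ K.index * m := Nat.mul_le_mul_left _ hle1
      _ = n := hdeg.symm
      _ = Module.finrank ℂ (Fin n → ℂ) := (Module.finrank_fin_fun ℂ).symm
  refine berger L hsolv π (fun N hN hLN => ?_) K hLK hK S hS hS0 hdim
  obtain ⟨ϑ, e, hϑ, h⟩ := hqp N hN hLN
  exact isHomog_of_char π N ϑ e hϑ h

end Cfsg.Agent.Lib.CharExt
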