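import Mathlib
import Cfsg.Agent.Lib.BrauerInd.Brauer
import Cfsg.Agent.Lib.CharSums.FixedPoints
import Cfsg.Agent.Lib.Blocks.NilKernel

/-!
Dade's theorem: an elementary supplement detecting an invariant character.
-/

set_option autoImplicit false

namespace Cfsg.Agent.Lib.CharExt

open Cfsg
open scoped ComplexConjugate

universe u

variable {G : Type u} [Group G] [Fintype G]

/-- The averaging of an induced linear character against an invariant function on a normal
subgroup. -/
theorem sum_indFun_mul_eq (N : Subgroup G) [hN : N.Normal] [Fintype N] (E : Subgroup G)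
    [Fintype (N.subgroupOf E)] (lam : E → ℂ) (F : N → ℂ)
    (hF : ∀ (g : G) (n : N), F (MulAut.conjNormal g n) = F n) :
    (Nat.card N : ℂ)⁻¹ * ∑ n : N, indFun E lam n * F n =
      ((E ⊔ N).index : ℂ) * ((Nat.card (N.subgroupOf E) : ℂ)⁻¹ *
        ∑ d : N.subgroupOf E, lam d * F ⟨((d : E) : G), d.2⟩) := by
  classical
  have hinner : ∀ x : G, ∑ n : N, extendByZero E lam (x⁻¹ * n * x) * F n =
      ∑ n : N, extendByZero E lam n * F n := by
    intro x
    refine Fintype.sum_equiv (MulAut.conjNormal x⁻¹ : MulAut N).toEquiv _ _ fun n => ?_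
    simp only [MulEquiv.toEquiv_eq_coe, MulEquiv.coe_toEquiv, hF, MulAut.conjNormal_apply, inv_inv]
  have h1 : ∑ n : N, indFun E lam n * F n =
      (Nat.card E : ℂ)⁻¹ * ((Nat.card G : ℂ) * ∑ n : N, extendByZero E lam n * F n) := by
    simp only [indFun]
    rw [Finset.sum_congr rfl fun n _ => mul_assoc _ _ _, ← Finset.mul_sum,
      Finset.sum_congr rfl fun n _ => Finset.sum_mul _ _ _, Finset.sum_comm,
      Finset.sum_congr rfl fun x _ => hinner x, Finset.sum_const,
      Finset.card_univ, nsmul_eq_mul, Nat.card_eq_fintype_card (α := G)]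
  have h2 : ∑ n : N, extendByZero E lam n * F n =
      ∑ d : N.subgroupOf E, lam d * F ⟨((d : E) : G), d.2⟩ := by
    symm
    refine Finset.sum_bij_ne_zero (fun d _ _ => (⟨((d : E) : G), d.2⟩ : N))
      (fun _ _ _ => Finset.mem_univ _) (fun a _ _ b _ _ h => Subtype.ext (Subtype.ext
        (congrArg (fun z : N => (z : G)) h))) (fun n _ hn => ?_) (fun d _ _ => ?_)
    · have hnE : (n : G) ∈ E := by
        by_contra h
        rw [Chars.extendByZero_of_not_mem lam h, zero_mul] at hn
        exact hn rfl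
      refine ⟨⟨⟨n, hnE⟩, n.2⟩, Finset.mem_univ _, ?_, rfl⟩
      rwa [Chars.extendByZero_of_mem lam hnE] at hn
    · change lam d * _ = extendByZero E lam ((d : E) : G) * _
      rw [Chars.extendByZero_coe E lam (d : E)]
  rw [h1, h2]
  have hN' := N.card_mul_index
  have hE' := (N.subgroupOf E).card_mul_index
  have hr : N.relIndex (E ⊔ N) = (N.subgroupOf E).index := Subgroup.relIndex_sup_right E N
  have hI := Subgroup.relIndex_mul_index (le_sup_right : N ≤ E ⊔ N)
  rw [hr] at hI
  have hG : (Nat.card G : ℂ) * Nat.card (N.subgroupOf E) =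
      (E ⊔ N).index * Nat.card N * Nat.card E := by
    rw [← hN', ← hI, ← hE']
    push_cast
    ring
  have : (Nat.card N : ℂ) ≠ 0 := Nat.cast_ne_zero.2 Nat.card_pos.ne'
  have : (Nat.card E : ℂ) ≠ 0 := Nat.cast_ne_zero.2 Nat.card_pos.ne'
  have : (Nat.card (N.subgroupOf E) : ℂ) ≠ 0 := Nat.cast_ne_zero.2 Nat.card_pos.ne'
  field_simp
  linear_combination (∑ d : N.subgroupOf E, lam d * F ⟨((d : E) : G), d.2⟩) * hG

/-- An elementary supplement on which the invariant character has a linear twist with inner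
product prime to `p`. -/
theorem exists_elementary_supplement {p : ℕ} (hp : p.Prime) (N : Subgroup G) [hN : N.Normal]
    [Fintype N] (hind : ∃ k, N.index = p ^ k) (θ : N → ℂ) (hθ : IsIrrCharacter N θ)
    (hinv : ∀ (g : G) (n : N), θ (MulAut.conjNormal g n) = θ n) :
    ∃ (E : Subgroup G) (_ : Fintype (N.subgroupOf E)) (lam : E →* ℂˣ) (k : ℕ),
      IsElementary p E ∧ E ⊔ N = ⊤ ∧ ¬ p ∣ k ∧
        classInner (fun d : N.subgroupOf E => (lam d : ℂ) * θ ⟨((d : E) : G), d.2⟩)
          (fun d : N.subgroupOf E => θ ⟨((d : E) : G), d.2⟩) = (k : ℂ) := by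
  classical
  obtain ⟨m, hm, hspan⟩ := BrauerInd.exists_const_mem_linSpan (G := G) hp
  let F : N → ℂ := fun n => θ n * conj (θ n)
  let L : (G → ℂ) →+ ℂ :=
    { toFun := fun f => (Nat.card N : ℂ)⁻¹ * ∑ n : N, f n * F n
      map_zero' := by simp
      map_add' := fun a b => by simp [add_mul, Finset.sum_add_distrib, mul_add] }
  by_contra hnot
  push Not at hnot
  let pZ : AddSubgroup ℂ := (AddSubgroup.zmultiples (p : ℂ))
  have hgen : ∀ f ∈ BrauerInd.linSpan (G := G) (fun q => q = p), L f ∈ pZ := by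
    intro f hf
    refine (AddSubgroup.closure_le (pZ.comap L)).2 ?_ hf
    rintro _ ⟨E, lam, ⟨q, hqp, hE⟩, rfl⟩
    subst q
    change (Nat.card N : ℂ)⁻¹ * ∑ n : N, _ * F n ∈ pZ
    have : Fintype (N.subgroupOf E) := Fintype.ofFinite _
    rw [sum_indFun_mul_eq N E _ F (fun g n => by simp only [F, hinv])]
    let θD : N.subgroupOf E → ℂ := fun d => θ ⟨((d : E) : G), d.2⟩
    let inclD : N.subgroupOf E →* N :=
      { toFun := fun d => ⟨((d : E) : G), d.2⟩
        map_one' := rfl
        map_mul' := fun _ _ => rfl }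
    have hθD : IsCharacter (N.subgroupOf E) θD :=
      Chars.isCharacter_comp inclD (Chars.isCharacter_of_isIrrCharacter hθ)
    have hlam : IsCharacter (N.subgroupOf E)
        ((fun d : N.subgroupOf E => (lam d : ℂ)) * θD) :=
      Chars.isCharacter_mul (Chars.isCharacter_comp (N.subgroupOf E).subtype
        (Chars.isCharacter_hom lam)) hθD
    obtain ⟨k, hk⟩ := Chars.isCharacter_classInner_nat hlam hθD
    have hk' : (Nat.card (N.subgroupOf E) : ℂ)⁻¹ *
        ∑ d : N.subgroupOf E, (lam d : ℂ) * F ⟨((d : E) : G), d.2⟩ = (k : ℂ) := by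
      rw [← hk, classInner]
      simp only [F, θD, Pi.mul_apply, mul_assoc]
    rw [hk']
    obtain ⟨j, hj⟩ := hind
    obtain ⟨i, -, hi⟩ := (Nat.dvd_prime_pow hp).1
      (hj ▸ Subgroup.index_dvd_of_le (le_sup_right : N ≤ E ⊔ N))
    rcases Nat.eq_zero_or_pos i with rfl | hipos
    · rw [pow_zero, Subgroup.index_eq_one] at hi
      have hdvd : p ∣ k := by
        by_contra h
        exact hnot E ‹_› lam k hE hi h hk
      obtain ⟨c, rfl⟩ := hdvd
      refine AddSubgroup.mem_zmultiples_iff.2 ⟨c, ?_⟩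
      rw [hi, Subgroup.index_top]
      push_cast [zsmul_eq_mul]
      ring
    · refine AddSubgroup.mem_zmultiples_iff.2 ⟨(p ^ (i - 1) * k : ℕ), ?_⟩
      rw [hi]
      conv_rhs => rw [← Nat.sub_add_cancel hipos]
      push_cast [zsmul_eq_mul, pow_succ]
      ring
  have hLm : L (fun _ => (m : ℂ)) = m := by
    change (Nat.card N : ℂ)⁻¹ * ∑ n : N, (m : ℂ) * F n = m
    rw [← Finset.mul_sum, mul_left_comm]
    have h := Chars.classInner_irr_self (⟨θ, hθ⟩ : IrrCharacter N)
    simp only [classInner] at h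
    rw [h, mul_one]
  have := hgen _ hspan
  rw [hLm, AddSubgroup.mem_zmultiples_iff] at this
  obtain ⟨z, hz⟩ := this
  refine hm ⟨z, ?_⟩
  rw [zsmul_eq_mul] at hz
  have h2 : ((z * (p : ℤ) : ℤ) : ℂ) = (m : ℂ) := by push_cast; exact hz
  rw [Int.cast_inj] at h2
  rw [← h2, mul_comm]

/-- A normal `p`-power-index subgroup: an invariant character has an invariant constituent of
multiplicity prime to `p` once some invariant pairing is prime to `p`. -/
theorem exists_fixed_constituent {p : ℕ} (hp : p.Prime) {E : Type u} [Group E] [Fintype E]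
    (D : Subgroup E) [D.Normal] [Fintype D] (hind : ∃ k, D.index = p ^ k) (α β : D → ℂ)
    (hα : IsCharacter D α) (hβ : IsCharacter D β)
    (hαinv : ∀ (g : E) (d : D), α (MulAut.conjNormal g d) = α d)
    (hβinv : ∀ (g : E) (d : D), β (MulAut.conjNormal g d) = β d)
    {k : ℕ} (hk : classInner α β = (k : ℂ)) (hpk : ¬ p ∣ k) :
    ∃ (φ : IrrCharacter D) (m : ℕ), (∀ (g : E) (d : D), (φ : D → ℂ) (MulAut.conjNormal g d) =
      (φ : D → ℂ) d) ∧ ¬ p ∣ m ∧ classInner β (φ : D → ℂ) = (m : ℂ) := by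
  classical
  have := Fact.mk hp
  choose a ha using fun φ : IrrCharacter D =>
    Chars.isCharacter_classInner_nat hα (Chars.irr_isCharacter φ)
  choose b hb using fun φ : IrrCharacter D =>
    Chars.isCharacter_classInner_nat hβ (Chars.irr_isCharacter φ)
  have hsum : k = ∑ φ, a φ * b φ := by
    have h := Chars.classInner_eq_sum_mul_conj (Chars.isClassFunction_of_isCharacter hα)
      (Chars.isClassFunction_of_isCharacter hβ)
    simp only [hk, ha, hb, Complex.conj_natCast] at h
    exact_mod_cast h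
  let : MulAction E (IrrCharacter D) :=
    { smul := CharSums.conjIrr D
      one_smul := CharSums.conjIrr_one D
      mul_smul := CharSums.conjIrr_mul D }
  have hsmul : ∀ (g : E) (φ : IrrCharacter D), g • φ = CharSums.conjIrr D g φ := fun _ _ => rfl
  have hpair : ∀ (γ : D → ℂ), (∀ (g : E) (d : D), γ (MulAut.conjNormal g d) = γ d) →
      ∀ (g : E) (φ : IrrCharacter D),
        classInner γ ((g • φ : IrrCharacter D) : D → ℂ) = classInner γ (φ : D → ℂ) := by
    intro γ hγ g φ
    rw [hsmul]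
    simp only [classInner]
    congr 1
    refine Fintype.sum_equiv (MulAut.conjNormal g⁻¹ : MulAut D).toEquiv _ _ fun d => ?_
    rw [CharSums.conjIrr_apply]
    change γ d * _ = γ ((MulAut.conjNormal g⁻¹ : MulAut D) d) * conj ((φ : D → ℂ)
      ((MulAut.conjNormal g⁻¹ : MulAut D) d))
    rw [hγ g⁻¹ d]
  obtain ⟨P⟩ := (inferInstance : Nonempty (Sylow p E))
  have hPD : (P : Subgroup E) ⊔ D = ⊤ := by
    rw [← Subgroup.index_eq_one]
    have h1 : ((P : Subgroup E) ⊔ D).index ∣ (P : Subgroup E).index :=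
      Subgroup.index_dvd_of_le le_sup_left
    obtain ⟨j, hj⟩ := hind
    obtain ⟨i, -, hi⟩ := (Nat.dvd_prime_pow hp).1
      (hj ▸ Subgroup.index_dvd_of_le (le_sup_right : D ≤ (P : Subgroup E) ⊔ D))
    rcases Nat.eq_zero_or_pos i with rfl | hipos
    · simpa using hi
    · exact absurd ((hi ▸ dvd_pow_self p hipos.ne').trans h1) P.not_dvd_index
  let f : IrrCharacter D → ZMod p := fun φ => ((a φ * b φ : ℕ) : ZMod p)
  have hne : ∃ φ ∈ MulAction.fixedPoints (P : Subgroup E) (IrrCharacter D), f φ ≠ 0 := by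
    by_contra hall
    push Not at hall
    refine hpk ((ZMod.natCast_eq_zero_iff k p).1 ?_ )
    rw [hsum, Nat.cast_sum]
    rw [Blocks.sum_eq_sum_fixedPoints (ZMod.natCast_self p) P.isPGroup' f ?_]
    · exact Finset.sum_eq_zero fun φ hφ => hall φ (Finset.mem_filter.1 hφ).2
    · intro g φ
      have e1 : a ((g : E) • φ) = a φ := by
        have := hpair α hαinv (g : E) φ
        rw [ha, ha] at this
        exact_mod_cast this
      have e2 : b ((g : E) • φ) = b φ := by
        have := hpair β hβinv (g : E) φ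
        rw [hb, hb] at this
        exact_mod_cast this
      change ((a ((g : E) • φ) * b ((g : E) • φ) : ℕ) : ZMod p) = _
      rw [e1, e2]
  obtain ⟨φ, hφ, hfφ⟩ := hne
  have hstab : MulAction.stabilizer E φ = ⊤ := by
    refine eq_top_iff.2 (hPD ▸ sup_le (fun g hg => hφ ⟨g, hg⟩) fun g hg => ?_)
    refine Subtype.ext (funext fun d => ?_)
    rw [hsmul, CharSums.conjIrr_apply]
    have h := Chars.irr_isClassFunction φ d (⟨g, hg⟩ : D)⁻¹
    refine (congrArg (φ : D → ℂ) (Subtype.ext ?_)).trans h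
    simp
  refine ⟨φ, b φ, fun g d => ?_, fun h => hfφ ?_, hb φ⟩
  · have h1 : (g⁻¹ : E) • φ = φ := MulAction.mem_stabilizer_iff.1 (hstab ▸ Subgroup.mem_top _)
    have h2 := congrArg (fun ψ : IrrCharacter D => (ψ : D → ℂ) d) h1
    simpa [hsmul, CharSums.conjIrr_apply] using h2
  · simp [f, (ZMod.natCast_eq_zero_iff _ p).2 h]

end Cfsg.Agent.Lib.CharExt
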