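import Mathlib
import Cfsg.Agent.Lib.PGroup.Extraspecial
import Cfsg.Agent.Lib.Chars.Ops
import Cfsg.Agent.Lib.Chars.Induced

/-!
Irreducible characters of extraspecial groups.
-/

set_option autoImplicit false

namespace Cfsg.Agent.Lib.CharExt

open Cfsg
open scoped commutatorElement

universe u

variable {P : Type u} [Group P] [Fintype P] {p n : ℕ} [Fact p.Prime]

/-- Either the degree is one, or the character vanishes off the centre and has degree `p ^ n`. -/
theorem extraspecial_dichotomy (hP : IsExtraspecial p P) (hcard : Nat.card P = p ^ (2 * n + 1))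
    (χ : IrrCharacter P) :
    ((χ : P → ℂ) 1 = 1) ∨ ((∀ x, x ∉ Subgroup.center P → (χ : P → ℂ) x = 0) ∧
      (χ : P → ℂ) 1 = (p : ℂ) ^ n) := by
  classical
  have hp : p.Prime := Fact.out
  obtain ⟨d, ρ, hρ, hχ⟩ := χ.2
  have := hρ
  set Z := Subgroup.center P
  by_cases htriv : ∀ z ∈ Z, (χ : P → ℂ) z = (χ : P → ℂ) 1
  · left
    obtain ⟨ψ, hψ⟩ := Chars.exists_irr_quotient Z χ htriv
    have : IsMulCommutative (P ⧸ Z) := ⟨⟨fun a b => by
      obtain ⟨a, rfl⟩ := QuotientGroup.mk_surjective a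
      obtain ⟨b, rfl⟩ := QuotientGroup.mk_surjective b
      rw [← QuotientGroup.mk_mul, ← QuotientGroup.mk_mul, QuotientGroup.eq]
      have h := Extraspecial.commutator_mem_center hP b⁻¹ a⁻¹
      rw [commutatorElement_def, inv_inv, inv_inv] at h
      rwa [mul_inv_rev, ← mul_assoc]⟩⟩
    rw [← hψ 1]
    exact Chars.irr_apply_one_of_comm ψ
  · right
    push Not at htriv
    obtain ⟨z₀, hz₀, hz₀χ⟩ := htriv
    have hsc : ∀ z ∈ Z, ∃ c : ℂ, ρ z = c • (1 : Module.End ℂ (Fin d → ℂ)) := fun z hz =>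
      Chars.exists_scalar_of_commute ρ (ρ z) fun h => by
        rw [← Module.End.mul_eq_comp, ← Module.End.mul_eq_comp, ← map_mul, ← map_mul,
          (Subgroup.mem_center_iff.1 hz h)]
    have hne1 : ∀ z ∈ Z, z ≠ 1 → ρ z ≠ 1 := by
      intro z hz hz1 h
      refine hz₀χ ?_
      have hker : Z ≤ MonoidHom.ker ρ := fun w hw =>
        Subgroup.zpowers_le.2 (show z ∈ MonoidHom.ker ρ from h)
          ((Extraspecial.zpowers_eq_center hP hz hz1).symm.le hw)
      rw [← hχ, ← Chars.rep_eq_one_iff]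
      exact hker hz₀
    have hvanish : ∀ x, x ∉ Z → (χ : P → ℂ) x = 0 := by
      intro x hx
      obtain ⟨y, hy⟩ := Extraspecial.exists_not_commute_of_not_mem_center hx
      have hc := Extraspecial.commutator_mem_center hP y x
      have hc1 : ⁅y, x⁆ ≠ 1 := fun h => hy (commutatorElement_eq_one_iff_mul_comm.1 h)
      obtain ⟨c, hcρ⟩ := hsc _ hc
      have h1 : (χ : P → ℂ) (y * x * y⁻¹) = (χ : P → ℂ) x :=
        Chars.irr_isClassFunction χ x y
      rw [show y * x * y⁻¹ = ⁅y, x⁆ * x by rw [commutatorElement_def]; group] at h1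
      rw [← hχ] at h1 ⊢
      simp only [Representation.character, map_mul, hcρ, smul_mul_assoc, one_mul, map_smul,
        smul_eq_mul] at h1 ⊢
      have hc' : c - 1 ≠ 0 := fun h => hne1 _ hc hc1 (by rw [hcρ, sub_eq_zero.1 h, one_smul])
      exact (mul_eq_zero.1 (by rw [sub_mul, one_mul, sub_eq_zero]; exact h1 :
        (c - 1) * LinearMap.trace ℂ (Fin d → ℂ) (ρ x) = 0)).resolve_left hc'
    refine ⟨hvanish, ?_⟩
    have hd1 : (χ : P → ℂ) 1 = (d : ℂ) := by
      rw [← hχ, Representation.char_one, Module.finrank_fin_fun]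
    have hsq : ∀ z ∈ Z, (χ : P → ℂ) z * (starRingEnd ℂ) ((χ : P → ℂ) z) = (d : ℂ) ^ 2 := by
      intro z hz
      obtain ⟨c, hc⟩ := hsc z hz
      obtain ⟨c', hc'⟩ := hsc z⁻¹ (inv_mem hz)
      rw [← Chars.irr_inv, ← hχ]
      simp only [Representation.character, hc, hc', map_smul, LinearMap.trace_one,
        Module.finrank_fin_fun, smul_eq_mul]
      have h := hc'
      have h1 : (c * c') • (1 : Module.End ℂ (Fin d → ℂ)) = 1 := by
        rw [← one_mul (1 : Module.End ℂ (Fin d → ℂ)), ← smul_mul_smul_comm, ← hc, ← hc', ← map_mul,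
          mul_inv_cancel, map_one, one_mul]
      have hd0 : Nontrivial (Fin d → ℂ) := Chars.nontrivial_of_isIrreducible ρ
      have hcc : c * c' = 1 := by
        have h2 := congrArg (LinearMap.trace ℂ (Fin d → ℂ)) h1
        rw [map_smul, smul_eq_mul, LinearMap.trace_one] at h2
        exact mul_eq_right₀ (Nat.cast_ne_zero.2 Module.finrank_pos.ne') |>.1 h2
      linear_combination (d : ℂ) ^ 2 * hcc
    have h1 := Chars.classInner_irr_self χ
    simp only [classInner] at h1
    rw [inv_mul_eq_one₀ Chars.natCard_ne_zero, eq_comm,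
      ← Finset.sum_filter_add_sum_filter_not Finset.univ (fun x => x ∈ Z),
      Finset.sum_congr rfl (fun z hz => hsq z (Finset.mem_filter.1 hz).2),
      Finset.sum_eq_zero (s := Finset.univ.filter fun x => x ∉ Z)
        (fun x hx => by rw [hvanish x (Finset.mem_filter.1 hx).2, zero_mul]),
      add_zero, Finset.sum_const, nsmul_eq_mul, ← Fintype.card_subtype,
      ← Nat.card_eq_fintype_card, show Nat.card {x // x ∈ Z} = p from hP.2, hcard] at h1
    have h2 : p * d ^ 2 = p ^ (2 * n + 1) := by exact_mod_cast h1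
    rw [show p ^ (2 * n + 1) = p * (p ^ n) ^ 2 by ring, Nat.mul_right_inj hp.ne_zero] at h2
    rw [hd1, Nat.pow_left_injective two_ne_zero h2]
    push_cast
    rfl

/-- The number of characters of degree `p ^ n`. -/
theorem extraspecial_card_large (hP : IsExtraspecial p P) (hcard : Nat.card P = p ^ (2 * n + 1)) :
    Nat.card {χ : IrrCharacter P // (χ : P → ℂ) 1 = (p : ℂ) ^ n} = p - 1 := by
  classical
  have hp : p.Prime := Fact.out
  have hn : n ≠ 0 := by
    rintro rfl
    have h := Extraspecial.card_gt_sq hP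
    rw [hcard] at h
    exact absurd ((Nat.pow_le_pow_iff_right hp.one_lt).1 h) (by norm_num)
  have hne : (p : ℂ) ^ n ≠ 1 := by
    exact_mod_cast (Nat.one_lt_pow hn hp.one_lt).ne'
  have hlin : Nat.card {χ : IrrCharacter P // (χ : P → ℂ) 1 = 1} = p ^ (2 * n) := by
    rw [Chars.card_linear_irr, Extraspecial.commutator_eq hP]
    have h := (Subgroup.center P).card_mul_index
    rw [hP.2, hcard, pow_succ', Nat.mul_right_inj hp.ne_zero] at h
    exact h
  have hsum := Chars.sum_degree_sq (G := P)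
  have hterm : ∀ χ : IrrCharacter P, (χ : P → ℂ) 1 ^ 2 =
      (if (χ : P → ℂ) 1 = 1 then (1 : ℂ) else 0) +
        (if (χ : P → ℂ) 1 = (p : ℂ) ^ n then (p : ℂ) ^ (2 * n) else 0) := by
    intro χ
    rcases extraspecial_dichotomy hP hcard χ with h | ⟨-, h⟩
    · rw [h, if_pos rfl, if_neg (fun e => hne e.symm)]; ring
    · rw [h, if_neg hne, if_pos rfl]; ring
  rw [Finset.sum_congr rfl fun χ _ => hterm χ, Finset.sum_add_distrib, Finset.sum_ite,
    Finset.sum_ite, Finset.sum_const_zero, Finset.sum_const_zero, add_zero, add_zero,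
    Finset.sum_const, Finset.sum_const, nsmul_eq_mul, nsmul_eq_mul, mul_one,
    ← Fintype.card_subtype, ← Fintype.card_subtype, ← Nat.card_eq_fintype_card,
    ← Nat.card_eq_fintype_card, hlin, hcard] at hsum
  have h2 : p ^ (2 * n) + Nat.card {χ : IrrCharacter P // (χ : P → ℂ) 1 = (p : ℂ) ^ n} * p ^ (2 * n) =
      p ^ (2 * n + 1) := by exact_mod_cast hsum
  rw [pow_succ'] at h2
  have h3 : (Nat.card {χ : IrrCharacter P // (χ : P → ℂ) 1 = (p : ℂ) ^ n} + 1) * p ^ (2 * n) =
      p * p ^ (2 * n) := by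
    rw [← h2]; ring
  have h4 := Nat.eq_of_mul_eq_mul_right (pow_pos hp.pos _) h3
  omega

/-- Inducing a faithful linear character of a maximal abelian subgroup. -/
theorem extraspecial_indFun (hP : IsExtraspecial p P) (hcard : Nat.card P = p ^ (2 * n + 1))
    (A : Subgroup P) (hA : Nat.card A = p ^ (n + 1)) (lam : A → ℂ)
    (hlam : IsCharacter A lam ∧ lam 1 = 1)
    (hZ : ∃ a : A, (a : P) ∈ Subgroup.center P ∧ lam a ≠ 1) :
    IsIrrCharacter P (indFun A lam) ∧ ∀ x : P, x ∉ Subgroup.center P → indFun A lam x = 0 := by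
  classical
  have hp : p.Prime := Fact.out
  let := Fintype.ofFinite A
  obtain ⟨hlc, hl1⟩ := hlam
  obtain ⟨φ, rfl⟩ := Chars.exists_hom_of_degree_one hlc hl1
  obtain ⟨a, haZ, ha⟩ := hZ
  have hdeg : indFun A (fun x => (φ x : ℂ)) 1 = (p : ℂ) ^ n := by
    rw [Chars.indFun_one_eq, map_one, Units.val_one, mul_one]
    have h := A.card_mul_index
    rw [hA, hcard, show p ^ (2 * n + 1) = p ^ (n + 1) * p ^ n by ring,
      Nat.mul_right_inj (pow_ne_zero _ hp.ne_zero)] at h
    rw [h]; push_cast; rfl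
  have hI := Chars.isCharacter_indFun A hlc
  obtain ⟨m, hm⟩ := Chars.isCharacter_exists_nat_decomp hI
  have hbig : ∀ ψ : IrrCharacter P, m ψ ≠ 0 →
      (∀ x, x ∉ Subgroup.center P → (ψ : P → ℂ) x = 0) ∧ (ψ : P → ℂ) 1 = (p : ℂ) ^ n := by
    intro ψ hψ
    refine (extraspecial_dichotomy hP hcard ψ).resolve_left fun h1 => ?_
    obtain ⟨μ, hμ⟩ := Chars.exists_hom_of_degree_one (Chars.irr_isCharacter ψ) h1
    have h2 : classInner (indFun A fun x => (φ x : ℂ)) (ψ : P → ℂ) = (m ψ : ℂ) := by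
      rw [hm, Chars.classInner_sum_smul_irr]
    rw [Chars.classInner_indFun_left A _ _ (Chars.irr_isClassFunction ψ)] at h2
    have hμA : (fun x : A => (ψ : P → ℂ) x) = fun x : A => ((μ.comp A.subtype) x : ℂ) := by
      funext x; rw [hμ]; rfl
    change classInner (fun x : A => (φ x : ℂ)) (fun x : A => (ψ : P → ℂ) x) = _ at h2
    rw [hμA] at h2
    have hne : (Chars.linIrr φ : IrrCharacter A) ≠ Chars.linIrr (μ.comp A.subtype) := fun h => by
      have h3 := Chars.linIrr_injective h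
      refine ha ?_
      have hμ1 : μ (a : P) = 1 := by
        have hker : commutator P ≤ MonoidHom.ker μ := Abelianization.commutator_subset_ker μ
        rw [Extraspecial.commutator_eq hP] at hker
        exact hker haZ
      rw [h3]
      simp [hμ1]
    have h4 := Chars.classInner_irr_of_ne hne
    change classInner (fun x : A => (φ x : ℂ)) (fun x : A => ((μ.comp A.subtype) x : ℂ)) = 0 at h4
    rw [h4] at h2
    exact hψ (by exact_mod_cast h2.symm)
  have hsum : (p : ℂ) ^ n = ∑ ψ, (m ψ : ℂ) * (p : ℂ) ^ n := by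
    conv_lhs => rw [← hdeg, hm]
    rw [Finset.sum_apply]
    refine Finset.sum_congr rfl fun ψ _ => ?_
    rw [Pi.smul_apply, smul_eq_mul]
    by_cases hψ : m ψ = 0
    · simp [hψ]
    · rw [(hbig ψ hψ).2]
  rw [← Finset.sum_mul, eq_comm, mul_eq_right₀ (pow_ne_zero _ (Nat.cast_ne_zero.2 hp.ne_zero))]
    at hsum
  have hsum' : ∑ ψ, m ψ = 1 := by exact_mod_cast hsum
  obtain ⟨ψ₀, hψ₀, hrest⟩ : ∃ ψ₀, m ψ₀ = 1 ∧ ∀ ψ, ψ ≠ ψ₀ → m ψ = 0 := by
    obtain ⟨ψ₀, hψ₀⟩ : ∃ ψ₀, m ψ₀ ≠ 0 := by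
      by_contra h
      push Not at h
      simp [h] at hsum'
    have h1 := Finset.add_sum_erase Finset.univ m (Finset.mem_univ ψ₀)
    rw [hsum'] at h1
    refine ⟨ψ₀, by omega, fun ψ hψ => ?_⟩
    have h2 : ∑ x ∈ Finset.univ.erase ψ₀, m x = 0 := by omega
    exact Finset.sum_eq_zero_iff.1 h2 ψ (Finset.mem_erase.2 ⟨hψ, Finset.mem_univ _⟩)
  have heq : indFun A (fun x => (φ x : ℂ)) = (ψ₀ : P → ℂ) := by
    rw [hm, Finset.sum_eq_single ψ₀ (fun ψ _ h => by rw [hrest ψ h, Nat.cast_zero, zero_smul])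
      (by simp), hψ₀, Nat.cast_one, one_smul]
  rw [heq]
  exact ⟨ψ₀.2, (hbig ψ₀ (by omega)).1⟩

end Cfsg.Agent.Lib.CharExt
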