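import Mathlib
import Cfsg.Agent.Lib.CharExt.Obstruction
import Cfsg.Agent.Lib.CharExt.Dade

/-!
Extending invariant characters over a `p`-group quotient: the determinant splitting exponent.
-/

set_option autoImplicit false

namespace Cfsg.Agent.Lib.CharExt

open Cfsg Representation

universe u v

variable {G : Type u} [Group G]

/-- A linear character of `K` trivial on `K ⊓ M` extends to `G = KM`, trivially on `M`. -/
theorem exists_hom_extend_trivial {A : Type*} [CommGroup A] (K M : Subgroup G) [M.Normal]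
    (htop : K ⊔ M = ⊤) (ψ : K →* A) (hker : ∀ k : K, (k : G) ∈ M → ψ k = 1) :
    ∃ Ψ : G →* A, (∀ m ∈ M, Ψ m = 1) ∧ ∀ k : K, Ψ k = ψ k := by
  let f : K →* G ⧸ M := (QuotientGroup.mk' M).comp K.subtype
  have hf : Function.Surjective f := by
    intro q
    obtain ⟨g, rfl⟩ := QuotientGroup.mk_surjective q
    obtain ⟨k, hk, m, hm, rfl⟩ : ∃ k ∈ K, ∃ m ∈ M, k * m = g :=
      Subgroup.mem_sup_of_normal_right.1 (htop ▸ Subgroup.mem_top g)
    refine ⟨⟨k, hk⟩, ?_⟩
    change ((k : G) : G ⧸ M) = _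
    rw [QuotientGroup.mk_mul, (QuotientGroup.eq_one_iff m).2 hm, mul_one]
  have hle : f.ker ≤ ψ.ker := fun k hk =>
    MonoidHom.mem_ker.2 (hker k ((QuotientGroup.eq_one_iff _).1 (MonoidHom.mem_ker.1 hk)))
  let Φ : G ⧸ M →* A := f.liftOfSurjective hf ⟨ψ, hle⟩
  refine ⟨Φ.comp (QuotientGroup.mk' M), fun m hm => ?_, fun k => ?_⟩
  · change Φ (m : G ⧸ M) = 1
    rw [(QuotientGroup.eq_one_iff m).2 hm, map_one]
  · exact MonoidHom.liftOfRightInverse_comp_apply f _ (Function.rightInverse_surjInv hf) ⟨ψ, hle⟩ k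

/-- In the situation of a central Sylow intersection, an elementary supplement meets `N` centrally,
and linear characters of the intersection extend up to an exponent prime to `p`. -/
theorem exists_linear_extension [Finite G] {p : ℕ} [Fact p.Prime] (N : Subgroup G) [hN : N.Normal]
    (hind : ∃ k : ℕ, N.index = p ^ k) (P : Sylow p G)
    (hcent : ∀ x ∈ (P : Subgroup G) ⊓ N, ∀ y ∈ (P : Subgroup G), x * y = y * x)
    (hlin : ∀ lam : ↥((P : Subgroup G) ⊓ N) → ℂ, IsCharacter ↥((P : Subgroup G) ⊓ N) lam →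
      lam 1 = 1 → ∃ μ : ↥(P : Subgroup G) → ℂ, IsCharacter ↥(P : Subgroup G) μ ∧ μ 1 = 1 ∧
        ∀ x : ↥((P : Subgroup G) ⊓ N), μ ⟨(x : G), x.2.1⟩ = lam x)
    (E : Subgroup G) (hE : IsElementary p E) (hEN : E ⊔ N = ⊤) :
    N.subgroupOf E ≤ Subgroup.center E ∧ ∀ φ : N.subgroupOf E →* ℂˣ,
      ∃ (h : ℕ) (μ : E →* ℂˣ), ¬ p ∣ h ∧ ∀ d : N.subgroupOf E, μ d = φ d ^ h := by
  classical
  have hp : p.Prime := Fact.out
  obtain ⟨x, hxc, hxp, a, ha⟩ := hE
  set D := N.subgroupOf E with hD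
  set h := orderOf x with hh
  obtain ⟨Q⟩ := (inferInstance : Nonempty (Sylow p E))
  have hxn : (Subgroup.zpowers x).Normal := ⟨by
    rintro _ ⟨i, rfl⟩ g
    refine ⟨i, ?_⟩
    change x ^ i = g * x ^ i * g⁻¹
    rw [((Subgroup.mem_center_iff.1 (zpow_mem hxc i)) g), mul_inv_cancel_right]⟩
  have htop : Subgroup.zpowers x ⊔ (Q : Subgroup E) = ⊤ := by
    rw [← Subgroup.index_eq_one]
    obtain ⟨i, -, hi⟩ := (Nat.dvd_prime_pow hp).1 (ha ▸ Subgroup.index_dvd_of_le
      (le_sup_left : Subgroup.zpowers x ≤ Subgroup.zpowers x ⊔ (Q : Subgroup E)))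
    rcases Nat.eq_zero_or_pos i with rfl | hipos
    · simpa using hi
    · exact absurd ((hi ▸ dvd_pow_self p hipos.ne').trans
        (Subgroup.index_dvd_of_le le_sup_right)) Q.not_dvd_index
  have hdec : ∀ e : E, ∃ i : ℤ, ∃ u ∈ (Q : Subgroup E), x ^ i * u = e := by
    intro e
    obtain ⟨_, ⟨i, rfl⟩, u, hu, rfl⟩ :=
      Subgroup.mem_sup_of_normal_left.1 (htop ▸ Subgroup.mem_top e)
    exact ⟨i, u, hu, rfl⟩
  -- the element `x` lies in `N`
  have hxD : x ∈ D := by
    obtain ⟨k, hk⟩ := hind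
    have h1 : x ^ (p ^ k) ∈ D := by
      change ((x ^ (p ^ k) : E) : G) ∈ N
      rw [Subgroup.coe_pow, ← hk]
      exact N.pow_index_mem (x : G)
    have hco : Nat.Coprime h (p ^ k) := hxp.pow_right k
    obtain ⟨r, hr⟩ := exists_pow_eq_self_of_coprime hco.symm
    rw [← hr]
    exact pow_mem h1 r
  -- Sylow transfer
  obtain ⟨Q', hQ'⟩ := Q.exists_comap_subtype_eq
  obtain ⟨g, hg⟩ := MulAction.exists_smul_eq G Q' P
  have hconj : ∀ u ∈ (Q : Subgroup E), g * (u : G) * g⁻¹ ∈ (P : Subgroup G) := by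
    intro u hu
    have h1 : (u : G) ∈ (Q' : Subgroup G) := by
      rw [← hQ'] at hu
      exact hu
    rw [← hg, Sylow.coe_subgroup_smul, ← SetLike.mem_coe,
      Subgroup.coe_pointwise_smul]
    exact ⟨(u : G), h1, rfl⟩
  have hQcent : ∀ u ∈ (Q : Subgroup E), u ∈ D → ∀ v ∈ (Q : Subgroup E), u * v = v * u := by
    intro u hu huD v hv
    have h1 := hcent _ ⟨hconj u hu, hN.conj_mem _ huD g⟩ _ (hconj v hv)
    refine Subtype.ext ?_
    have h2 : g * ((u : G) * (v : G)) * g⁻¹ = g * ((v : G) * (u : G)) * g⁻¹ := by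
      simpa [mul_assoc] using h1
    exact mul_left_cancel (mul_right_cancel h2)
  have hcenter : D ≤ Subgroup.center E := by
    intro d hd
    obtain ⟨i, u, hu, rfl⟩ := hdec d
    refine mul_mem (zpow_mem hxc i) (Subgroup.mem_center_iff.2 fun e => ?_)
    obtain ⟨j, v, hv, rfl⟩ := hdec e
    have huD : u ∈ D := by
      have := mul_mem (inv_mem (zpow_mem hxD i)) hd
      rwa [inv_mul_cancel_left] at this
    have hxu : u * x ^ j = x ^ j * u := Subgroup.mem_center_iff.1 (zpow_mem hxc j) u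
    rw [← mul_assoc, hxu, mul_assoc, mul_assoc, hQcent u hu huD v hv]
  refine ⟨hcenter, fun φ => ⟨h, ?_⟩⟩
  -- the characters
  let A : Subgroup G := (P : Subgroup G) ⊓ N
  let : CommGroup A :=
    { (inferInstance : Group A) with
      mul_comm := fun s t => Subtype.ext (hcent _ s.2 _ t.2.1) }
  let R : Subgroup E := (Q : Subgroup E) ⊓ D
  let c : R →* A :=
    { toFun := fun u => ⟨g * ((u : E) : G) * g⁻¹, hconj u u.2.1, hN.conj_mem _ u.2.2 g⟩
      map_one' := Subtype.ext (by simp)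
      map_mul' := fun s t => Subtype.ext (by simp [mul_assoc]) }
  have hcinj : Function.Injective c := by
    intro s t hst
    have h1 := congrArg Subtype.val hst
    exact Subtype.ext (Subtype.ext (mul_left_cancel (mul_right_cancel h1)))
  let l : R →* ℂˣ := (φ.comp (Subgroup.inclusion (inf_le_right : R ≤ D))) ^ h
  let er : R ≃* c.range := MonoidHom.ofInjective hcinj
  obtain ⟨l', hl'⟩ := MonoidHom.domRestrict_surjective ℂ c.range (l.comp er.symm.toMonoidHom)
  obtain ⟨μ₀, hμ₀c, hμ₀1, hμ₀⟩ := hlin (fun z => (l' z : ℂ)) (Chars.isCharacter_hom l') (by simp)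
  obtain ⟨μP, hμP⟩ := Chars.exists_hom_of_degree_one hμ₀c hμ₀1
  let ν : (Q : Subgroup E) →* ℂˣ :=
    { toFun := fun u => μP ⟨g * ((u : E) : G) * g⁻¹, hconj u u.2⟩
      map_one' := by
        rw [← map_one μP]; congr 1; exact Subtype.ext (by simp)
      map_mul' := fun s t => by
        rw [← map_mul]; congr 1; exact Subtype.ext (by simp [mul_assoc]) }
  have hν : ∀ u : R, ν ⟨u, u.2.1⟩ = l u := by
    intro u
    refine Units.ext ?_
    have h1 := hμ₀ (c u)
    rw [hμP] at h1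
    refine h1.trans (congrArg Units.val ?_)
    have h2 := DFunLike.congr_fun hl' (er u)
    refine h2.trans ?_
    change l (er.symm (er u)) = l u
    rw [MulEquiv.symm_apply_apply]
  obtain ⟨b, hb⟩ := Q.2.exists_card_eq
  have hco : Nat.Coprime h (p ^ b) := hxp.pow_right b
  obtain ⟨s, hs1, hs0⟩ := Nat.chineseRemainder hco 0 1
  have hpow : ∀ (i : ℤ) (u : E), u ∈ (Q : Subgroup E) → (x ^ i * u) ^ s = u := by
    intro i u hu
    have hxu : Commute (x ^ i) u := (Subgroup.mem_center_iff.1 (zpow_mem hxc i) u).symm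
    have e1 : (x ^ i) ^ s = 1 := by
      rw [← zpow_natCast, ← zpow_mul, mul_comm, zpow_mul, zpow_natCast]
      rw [show x ^ s = 1 from orderOf_dvd_iff_pow_eq_one.1 (Nat.modEq_zero_iff_dvd.1 hs1), one_zpow]
    have e2 : u ^ s = u := by
      have h3 : orderOf u ∣ p ^ b := by
        rw [← hb]
        exact Subgroup.orderOf_dvd_natCard _ hu
      conv_rhs => rw [← pow_one u]
      exact pow_eq_pow_iff_modEq.2 (hs0.of_dvd h3)
    rw [hxu.mul_pow, e1, e2, one_mul]
  have hsQ : ∀ e : E, e ^ s ∈ (Q : Subgroup E) := fun e => by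
    obtain ⟨i, u, hu, rfl⟩ := hdec e
    rw [hpow i u hu]; exact hu
  let μ : E →* ℂˣ :=
    { toFun := fun e => ν ⟨e ^ s, hsQ e⟩
      map_one' := by
        rw [← map_one ν]; congr 1; exact Subtype.ext (one_pow s)
      map_mul' := fun e e' => by
        rw [← map_mul]
        congr 1
        refine Subtype.ext ?_
        obtain ⟨i, u, hu, rfl⟩ := hdec e
        obtain ⟨j, v, hv, rfl⟩ := hdec e'
        have hxu : u * x ^ j = x ^ j * u := Subgroup.mem_center_iff.1 (zpow_mem hxc j) u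
        change (x ^ i * u * (x ^ j * v)) ^ s = (x ^ i * u) ^ s * (x ^ j * v) ^ s
        rw [hpow i u hu, hpow j v hv,
          show x ^ i * u * (x ^ j * v) = x ^ (i + j) * (u * v) by
            rw [zpow_add, mul_assoc, ← mul_assoc u, hxu]; simp only [mul_assoc],
          hpow _ _ (mul_mem hu hv)] }
  refine ⟨μ, (hp.coprime_iff_not_dvd).1 hxp.symm, fun d => ?_⟩
  obtain ⟨i, u, hu, hd⟩ := hdec (d : E)
  have huD : u ∈ D := by
    have := mul_mem (inv_mem (zpow_mem hxD i)) (hd.symm ▸ d.2)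
    rwa [inv_mul_cancel_left] at this
  have hd' : d = (⟨x, hxD⟩ : D) ^ i * ⟨u, huD⟩ := Subtype.ext (by simp [hd])
  have h1 : μ (d : E) = l ⟨u, hu, huD⟩ := by
    rw [← hν]
    change ν _ = ν _
    congr 1
    exact Subtype.ext (by rw [← hd]; exact hpow i u hu)
  have h2 : (φ ((⟨x, hxD⟩ : D) ^ i)) ^ h = 1 := by
    rw [← map_pow, ← map_one φ]
    congr 1
    refine Subtype.ext ?_
    rw [Subgroup.coe_pow, Subgroup.coe_zpow, ← zpow_natCast, ← zpow_mul, mul_comm, zpow_mul,
      zpow_natCast, hh, pow_orderOf_eq_one, one_zpow]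
    rfl
  rw [h1, hd', map_mul, mul_pow, h2, one_mul]
  rfl

/-- The eigenspace of a linear character on the intersection gives a splitting exponent. -/
theorem mul_mem_splitExponents {V : Type v} [AddCommGroup V] [Module ℂ V] [FiniteDimensional ℂ V]
    (N : Subgroup G) [N.Normal] (σ : Representation ℂ N V) (E : Subgroup G) (hEN : E ⊔ N = ⊤)
    (hcent : N.subgroupOf E ≤ Subgroup.center E) (φ : N.subgroupOf E →* ℂˣ) (W : Submodule ℂ V)
    (hW : ∀ v, v ∈ W ↔ ∀ d : N.subgroupOf E, σ ⟨((d : E) : G), d.2⟩ v = (φ d : ℂ) • v)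
    (h : ℕ) (μ : E →* ℂˣ) (hμ : ∀ d : N.subgroupOf E, μ d = φ d ^ (Module.finrank ℂ W * h)) :
    ((Module.finrank ℂ W * h : ℕ) : ℤ) ∈ splitExponents N σ := by
  classical
  let Γ := intertwinerGroup N σ
  let ΓE : Subgroup Γ := E.comap (projG N σ)
  have hstab : ∀ (γ : ΓE), ∀ v ∈ W, (projT N σ γ.1 : Module.End ℂ V) v ∈ W := by
    intro γ v hv
    rw [hW] at hv ⊢
    intro d
    have hconj : MulAut.conjNormal (projG N σ γ.1) (⟨((d : E) : G), d.2⟩ : N) =
        ⟨((d : E) : G), d.2⟩ := by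
      refine Subtype.ext ?_
      rw [MulAut.conjNormal_apply]
      have h1 := congrArg Subtype.val
        (Subgroup.mem_center_iff.1 (hcent d.2) ⟨projG N σ γ.1, γ.2⟩)
      simp only [Subgroup.coe_mul] at h1
      rw [h1, mul_inv_cancel_right]
    have h2 : (projT N σ γ.1 : Module.End ℂ V) * σ ⟨((d : E) : G), d.2⟩ =
        σ (MulAut.conjNormal (projG N σ γ.1) ⟨((d : E) : G), d.2⟩) * projT N σ γ.1 :=
      γ.1.2 _
    rw [hconj] at h2
    have h3 := LinearMap.congr_fun h2 v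
    simp only [Module.End.mul_apply] at h3
    rw [← h3, hv d, map_smul]
  let rW : ΓE →* Module.End ℂ W :=
    { toFun := fun γ => (projT N σ γ.1 : Module.End ℂ V).restrict (hstab γ)
      map_one' := LinearMap.ext fun v => Subtype.ext (by simp)
      map_mul' := fun a b => LinearMap.ext fun v => Subtype.ext (by simp) }
  let δ : ΓE →* ℂˣ := (LinearMap.det.comp rW).toHomUnits
  let μE : ΓE →* ℂˣ :=
    μ.comp (((projG N σ).comp ΓE.subtype).codRestrict E fun γ => γ.2)
  let ψ : ΓE →* ℂˣ := δ ^ h * μE⁻¹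
  have := range_inclN_normal N σ
  have htop : ΓE ⊔ (inclN N σ).range = ⊤ := by
    refine eq_top_iff.2 fun γ _ => ?_
    obtain ⟨e, he, n, hn, hen⟩ : ∃ e ∈ E, ∃ n ∈ N, e * n = projG N σ γ :=
      Subgroup.mem_sup_of_normal_right.1 (hEN ▸ Subgroup.mem_top _)
    rw [show γ = γ * (inclN N σ ⟨n, hn⟩)⁻¹ * inclN N σ ⟨n, hn⟩ by rw [inv_mul_cancel_right]]
    refine mul_mem (Subgroup.mem_sup_left ?_) (Subgroup.mem_sup_right ⟨_, rfl⟩)
    change projG N σ _ ∈ E
    rw [map_mul, map_inv, projG_inclN, ← hen, mul_inv_cancel_right]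
    exact he
  have hker : ∀ k : ΓE, (k : Γ) ∈ (inclN N σ).range → ψ k = 1 := by
    rintro ⟨_, hk⟩ ⟨n, rfl⟩
    let d : N.subgroupOf E := ⟨⟨(n : G), hk⟩, n.2⟩
    have hr : rW ⟨inclN N σ n, hk⟩ = (φ d : ℂ) • (1 : Module.End ℂ W) := by
      refine LinearMap.ext fun v => Subtype.ext ?_
      exact (hW v).1 v.2 d
    have hδ : δ ⟨inclN N σ n, hk⟩ = φ d ^ Module.finrank ℂ W := by
      refine Units.ext ?_
      change LinearMap.det (rW ⟨inclN N σ n, hk⟩) = _
      rw [hr, LinearMap.det_smul, map_one, mul_one, Units.val_pow_eq_pow_val]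
    change δ ⟨inclN N σ n, hk⟩ ^ h * (μE ⟨inclN N σ n, hk⟩)⁻¹ = 1
    have hμE : μE ⟨inclN N σ n, hk⟩ = μ (d : E) := rfl
    rw [hδ, hμE, hμ, ← pow_mul, mul_inv_cancel]
  obtain ⟨Ψ, hΨN, hΨE⟩ := exists_hom_extend_trivial ΓE (inclN N σ).range htop ψ hker
  refine ⟨Ψ, fun n => hΨN _ ⟨n, rfl⟩, fun c => ?_⟩
  have hc : inclScalar N σ c ∈ ΓE := one_mem E
  refine (hΨE ⟨_, hc⟩).trans ?_
  have hδ : δ ⟨_, hc⟩ = c ^ Module.finrank ℂ W := by
    refine Units.ext ?_
    change LinearMap.det (rW ⟨_, hc⟩) = _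
    have hr : rW ⟨_, hc⟩ = (c : ℂ) • (1 : Module.End ℂ W) :=
      LinearMap.ext fun v => Subtype.ext rfl
    rw [hr, LinearMap.det_smul, map_one, mul_one, Units.val_pow_eq_pow_val]
  change δ ⟨_, hc⟩ ^ h * (μE ⟨_, hc⟩)⁻¹ = _
  have hμE : μE ⟨_, hc⟩ = 1 := by
    change μ ⟨projG N σ (inclScalar N σ c), _⟩ = 1
    exact map_one μ
  rw [hδ, hμE, inv_one, mul_one, ← pow_mul, zpow_natCast]

/-- The fixed vectors of a linear character count its multiplicity. -/
theorem exists_eigen_submodule [Fintype G] {V : Type v} [AddCommGroup V] [Module ℂ V]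
    [FiniteDimensional ℂ V] (τ : Representation ℂ G V) (φ : G →* ℂˣ) :
    ∃ W : Submodule ℂ V, (∀ v, v ∈ W ↔ ∀ g, τ g v = (φ g : ℂ) • v) ∧
      (Module.finrank ℂ W : ℂ) = classInner τ.character (fun g => (φ g : ℂ)) := by
  let W : Submodule ℂ V :=
    { carrier := {v | ∀ g, τ g v = (φ g : ℂ) • v}
      zero_mem' := fun g => by simp
      add_mem' := fun {a b} ha hb g => by rw [map_add, ha g, hb g, smul_add]
      smul_mem' := fun r {a} ha g => by rw [map_smul, ha g, smul_comm] }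
  refine ⟨W, fun v => Iff.rfl, ?_⟩
  rw [← Chars.char_homRep φ, Chars.classInner_char_eq_finrank]
  congr 1
  let e : W ≃ₗ[ℂ] IntertwiningMap (Chars.homRep φ) τ :=
    { toFun := fun v => ⟨LinearMap.toSpanSingleton ℂ V (v : V), fun g => LinearMap.ext fun z => by
        change ((φ g : ℂ) • z) • (v : V) = τ g (z • (v : V))
        rw [map_smul, v.2 g, smul_eq_mul, mul_smul, smul_comm]⟩
      map_add' := fun a b => IntertwiningMap.ext (LinearMap.ext fun z => smul_add z (a : V) b)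
      map_smul' := fun r a => IntertwiningMap.ext (LinearMap.ext fun z => smul_comm z r (a : V))
      invFun := fun f => ⟨f.toLinearMap 1, fun g => by
        have h1 := LinearMap.congr_fun (f.isIntertwining' g) 1
        rw [← map_smul]
        exact h1.symm⟩
      left_inv := fun v => Subtype.ext (one_smul ℂ (v : V))
      right_inv := fun f => IntertwiningMap.ext (LinearMap.ext fun z => by
        change z • f.toLinearMap 1 = f.toLinearMap z
        rw [← map_smul, smul_eq_mul, mul_one]) }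
  exact e.finrank_eq

end Cfsg.Agent.Lib.CharExt
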